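import Mathlib
import Cfsg.Agent.H31.FewSylow.SmallOrder
import Cfsg.Agent.H63.HalfNorm.Exterior
import Cfsg.Agent.H25.CharValues

/-!
Simple groups whose order has two simple prime divisors: tools.
-/

set_option autoImplicit false
set_option linter.unusedSectionVars false

namespace Cfsg.Agent.H69.PRQ

open Cfsg.Agent.H31.Defect Cfsg.Agent.H31.FewSylow
open scoped ComplexConjugate

variable {G : Type*} [Group G] [Fintype G]

/-- In a perfect group an involution has determinant one in every representation. -/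
theorem four_dvd_deg_sub (hperf : commutator G = ⊤) (χ : Cfsg.IrrCharacter G) {g : G}
    (hg : g * g = 1) :
    ∃ a : ℤ, χ.1 g = (a : ℂ) ∧ (4 : ℤ) ∣ (Cfsg.charDegree χ.1 : ℤ) - a := by
  classical
  obtain ⟨n, ρ, -, hρ⟩ := χ.2
  have h2 : (ρ g) ^ 2 = 1 := by rw [← map_pow, sq, hg, map_one]
  obtain ⟨b, μ, hb, hμ⟩ := H25.exists_eigenbasis_of_pow_eq_one (ρ g) (n := 2) (by norm_num) h2
  have hmat : LinearMap.toMatrix b b (ρ g) = Matrix.diagonal μ := by
    ext i j
    rw [LinearMap.toMatrix_apply, hb, map_smul, Finsupp.smul_apply, b.repr_self, smul_eq_mul,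
      Finsupp.single_apply, Matrix.diagonal_apply]
    rcases eq_or_ne i j with h | h
    · subst h; simp
    · simp [h, Ne.symm h]
  have htr : χ.1 g = ∑ i, μ i := by
    rw [← congrFun hρ g, Representation.character, LinearMap.trace_eq_matrix_trace ℂ b, hmat,
      Matrix.trace_diagonal]
  have hdet : ∏ i, μ i = 1 := by
    rw [← Matrix.det_diagonal, ← hmat, LinearMap.det_toMatrix]
    let f : G →* ℂ := LinearMap.det.comp ρ
    have hk : commutator G ≤ f.toHomUnits.ker := Abelianization.commutator_subset_ker _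
    rw [hperf] at hk
    exact congrArg Units.val (MonoidHom.mem_ker.1 (hk (Subgroup.mem_top g)))
  set N := Finset.univ.filter fun i => μ i ≠ 1 with hN
  have hμ' : ∀ i, μ i = 1 ∨ μ i = -1 := fun i => sq_eq_one_iff.1 (hμ i)
  have hneg : ∀ i ∈ N, μ i = -1 := fun i hi =>
    (hμ' i).resolve_left (Finset.mem_filter.1 hi).2
  have hprod : ∏ i, μ i = (-1) ^ N.card := by
    rw [← Finset.prod_filter_mul_prod_filter_not Finset.univ (fun i => μ i ≠ 1), ← hN,
      Finset.prod_congr rfl hneg, Finset.prod_const,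
      Finset.prod_eq_one (fun i hi => by simpa using (Finset.mem_filter.1 hi).2), mul_one]
  obtain ⟨w, hw⟩ : Even N.card := by
    rw [← neg_one_pow_eq_one_iff_even (R := ℂ) (by norm_num), ← hprod, hdet]
  have hsum : ∑ i, μ i = (Cfsg.charDegree χ.1 : ℂ) - 2 * N.card := by
    have h1 : ∀ i, μ i = 1 + (if μ i ≠ 1 then (-2 : ℂ) else 0) := fun i => by
      rcases hμ' i with h | h <;> simp [h] <;> norm_num
    rw [Finset.sum_congr rfl (g := fun i => 1 + (if μ i ≠ 1 then (-2 : ℂ) else 0)) fun i _ => h1 i,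
      Finset.sum_add_distrib, ← Finset.sum_filter, ← hN, Finset.sum_const, Finset.sum_const,
      Finset.card_univ, Fintype.card_fin, nsmul_eq_mul, nsmul_eq_mul, mul_one, ← (irr_degree χ).1,
      ← congrFun hρ 1, Representation.char_one]
    ring
  refine ⟨(Cfsg.charDegree χ.1 : ℤ) - 2 * N.card, ?_, ⟨w, ?_⟩⟩
  · rw [htr, hsum]; push_cast; ring
  · rw [hw]; push_cast; ring

/-- A character is a nonnegative integral combination of irreducible ones. -/
theorem exists_coeff {ψ : G → ℂ} (hψ : Cfsg.IsCharacter G ψ) :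
    ∃ c : Cfsg.IrrCharacter G → ℕ,
      (∀ χ, (c χ : ℂ) = Cfsg.classInner ψ χ.1) ∧ ∀ g, ψ g = ∑ χ, (c χ : ℂ) * χ.1 g := by
  choose c hc using fun χ => H26.exists_nat_classInner_irr hψ χ
  refine ⟨c, fun χ => (hc χ).symm, fun g => ?_⟩
  have h := congrFun (H26.class_function_expansion ψ (H26.isClassFunction_of_isCharacter hψ)) g
  simp only [Finset.sum_apply, Pi.smul_apply, smul_eq_mul, hc] at h
  exact h

variable {p : ℕ} [hp : Fact p.Prime] {z : G}

/-- The sign of a character in the block, negated. -/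
def cc (B : BlockData p z (⊥ : Subgroup G)) (χ : Cfsg.IrrCharacter G) : ℤ := B.b χ - B.m χ 0

/-- Characters outside the exceptional family are constant on `⟨z⟩ - 1`. -/
theorem value_const (B : BlockData p z (⊥ : Subgroup G)) {χ : Cfsg.IrrCharacter G} (hK : χ ∉ B.K)
    {i : ZMod p} (hi : i ≠ 0) : χ.1 (z ^ i.val) = -(cc B χ : ℂ) := by
  classical
  by_cases hc : B.b χ - B.m χ 0 = 0
  · have h := B.valZero χ hK hc i hi
    rw [vsum_eq, Fintype.sum_unique, show ((default : (⊥ : Subgroup G)) : G) = 1 from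
      Subgroup.mem_bot.1 (Subtype.prop _), mul_one] at h
    rw [h, cc, hc, Int.cast_zero, neg_zero]
  · have h := B.val χ hc i hi 1
    rw [Subgroup.coe_one, mul_one] at h
    rw [h, cc]
    simp

theorem cc_one (B : BlockData p z (⊥ : Subgroup G)) : cc B (H26.oneIrr G) = -1 := by
  simp [cc, B.b_one, B.m_one]

/-- The Gauss period of the exceptional character. -/
theorem value_K (B : BlockData p z (⊥ : Subgroup G)) {θ : Cfsg.IrrCharacter G} (hθ : θ ∈ B.K)
    {i : ZMod p} (hi : i ≠ 0) :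
    θ.1 (z ^ i.val) = B.ε * ∑ k ∈ fib B.κ θ, ZMod.stdAddChar (k * i) := by
  have h := B.valK θ hθ i hi 1
  rwa [Subgroup.coe_one, mul_one] at h

/-- Second moment of a period. -/
theorem period_normSq_sum (S : Finset (ZMod p)) :
    ∑ i : ZMod p, (∑ x ∈ S, (ZMod.stdAddChar (x * i) : ℂ)) *
      conj (∑ y ∈ S, (ZMod.stdAddChar (y * i) : ℂ)) = (p : ℂ) * S.card := by
  classical
  simp only [map_sum, Finset.sum_mul_sum]
  rw [Finset.sum_comm]
  have h : ∀ x ∈ S, ∑ i : ZMod p, ∑ y ∈ S,
      (ZMod.stdAddChar (x * i) : ℂ) * conj (ZMod.stdAddChar (y * i) : ℂ) = (p : ℂ) := by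
    intro x hx
    rw [Finset.sum_comm]
    have h2 : ∀ y, ∑ i : ZMod p,
        (ZMod.stdAddChar (x * i) : ℂ) * conj (ZMod.stdAddChar (y * i) : ℂ) =
        if x = y then (p : ℂ) else 0 := by
      intro y
      rw [Finset.sum_congr rfl (g := fun i => (ZMod.stdAddChar (i * (x - y)) : ℂ)) fun i _ => by
        rw [conj_std, ← AddChar.map_add_eq_mul]; congr 1; ring, sum_std]
      simp only [sub_eq_zero]
    rw [Finset.sum_congr rfl fun y _ => h2 y, Finset.sum_ite_eq, if_pos hx]
  rw [Finset.sum_congr rfl h, Finset.sum_const, nsmul_eq_mul, mul_comm]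

theorem period_sum_erase {S : Finset (ZMod p)} (hS : (0 : ZMod p) ∉ S) :
    ∑ i ∈ Finset.univ.erase (0 : ZMod p), ∑ x ∈ S, (ZMod.stdAddChar (x * i) : ℂ) = -(S.card : ℂ) := by
  rw [Finset.sum_comm, Finset.sum_congr rfl (g := fun _ => (-1 : ℂ)) fun x hx => ?_, Finset.sum_const,
    nsmul_eq_mul]
  · ring
  · rw [Finset.sum_congr rfl fun i _ => by rw [mul_comm x i]]
    exact sum_std_ne_zero fun h => hS (h ▸ hx)

end Cfsg.Agent.H69.PRQ
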