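import Mathlib
import Cfsg.Agent.H69.PRQ.Basic
import Cfsg.Agent.H30.FrobeniusValues

/-!
A block with negative sign, a period of two-power order and small exceptional degree.
-/

set_option autoImplicit false
set_option linter.unusedSectionVars false

namespace Cfsg.Agent.H69.PRQ

open Cfsg.Agent.H31.Defect Cfsg.Agent.H31.FewSylow Cfsg.Agent.H63.HalfNorm
open scoped ComplexConjugate

variable {G : Type*} [Group G] [Fintype G] {p : ℕ} [hp : Fact p.Prime] {z : G} {H : Subgroup G}

theorem mspec (B : BlockData p z (⊥ : Subgroup G)) (χ : Cfsg.IrrCharacter G) (k : ZMod p) :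
    (B.m χ k : ℂ) * p = ∑ i : ZMod p, χ.1 (z ^ i.val) * conj (ZMod.stdAddChar (k * i) : ℂ) := by
  classical
  have h := B.m_spec χ k
  rw [Subgroup.card_bot, mul_one] at h
  rw [h]
  refine Finset.sum_congr rfl fun i _ => ?_
  rw [vsum_eq, Fintype.sum_unique, show ((default : (⊥ : Subgroup G)) : G) = 1 from
    Subgroup.mem_bot.1 (Subtype.prop _), mul_one]

theorem mspec_zero (B : BlockData p z (⊥ : Subgroup G)) (χ : Cfsg.IrrCharacter G) :
    (B.m χ 0 : ℂ) * p = ∑ i : ZMod p, χ.1 (z ^ i.val) := by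
  rw [mspec]
  simp

theorem pow_card_exps (S : Parts p z ⊥ H) {a : ZMod p} (ha : a ∈ H30.conjExps p z) :
    a ^ (H30.conjExps p z).card = 1 := by
  classical
  set E := H30.conjExps p z
  have himg : E.image (a * ·) = E := by
    refine Finset.eq_of_subset_of_card_le (fun x hx => ?_) ?_
    · obtain ⟨y, hy, rfl⟩ := Finset.mem_image.1 hx
      exact S.mul_mem ha hy
    · rw [Finset.card_image_of_injective _ (mul_right_injective₀ (S.ne_zero_of_mem ha))]
  have h : ∏ x ∈ E, a * x = ∏ x ∈ E, x := by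
    conv_rhs => rw [← himg]
    rw [Finset.prod_image fun x _ y _ h => mul_right_injective₀ (S.ne_zero_of_mem ha) h]
  rw [Finset.prod_mul_distrib, Finset.prod_const] at h
  exact (mul_eq_right₀ (Finset.prod_ne_zero_iff.2 fun x hx => S.ne_zero_of_mem hx)).1 h

theorem mem_exps_of_pow (S : Parts p z ⊥ H) {a : ZMod p}
    (ha : a ^ (H30.conjExps p z).card = 1) : a ∈ H30.conjExps p z := by
  classical
  set E := H30.conjExps p z with hE
  have hpos : 0 < E.card := S.card_exp_pos
  have hsub : E ⊆ (Polynomial.nthRoots E.card (1 : ZMod p)).toFinset := fun x hx =>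
    Multiset.mem_toFinset.2 ((Polynomial.mem_nthRoots hpos).2 (pow_card_exps S hx))
  have heq : E = (Polynomial.nthRoots E.card (1 : ZMod p)).toFinset :=
    Finset.eq_of_subset_of_card_le hsub
      ((Multiset.toFinset_card_le _).trans (Polynomial.card_nthRoots _ _))
  rw [heq]
  exact Multiset.mem_toFinset.2 ((Polynomial.mem_nthRoots hpos).2 ha)

theorem value_scale (S : Parts p z ⊥ H) (χ : Cfsg.IrrCharacter G) {c : ZMod p}
    (hc : c ∈ H30.conjExps p z) (i : ZMod p) : χ.1 (z ^ (c * i).val) = χ.1 (z ^ i.val) := by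
  obtain ⟨g, hg⟩ := S.mem_conjExps.1 hc
  rw [← pow_val_mul S.ord, ← hg, conj_pow, H26.irr_conj]

theorem fib_one (S : Parts p z ⊥ H) (B : BlockData p z (⊥ : Subgroup G)) :
    fib B.κ (B.κ 1) = H30.conjExps p z := by
  classical
  have hθ : B.κ 1 ∈ B.K := B.κ_mem 1 one_ne_zero
  refine (Finset.eq_of_subset_of_card_le (fun c hc => ?_) (B.fiber _ hθ).le).symm
  have hc0 := S.ne_zero_of_mem hc
  refine mem_fib.2 ⟨hc0, ?_⟩
  by_contra hne
  have hinv : (B.m (B.κ 1) c : ℂ) * p = (B.m (B.κ 1) 1 : ℂ) * p := by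
    rw [mspec, mspec]
    refine Fintype.sum_equiv (Equiv.mulLeft₀ c hc0) _ _ fun i => ?_
    rw [Equiv.mulLeft₀_apply, value_scale S _ hc, one_mul]
  have h0 : B.m (B.κ 1) c = B.m (B.κ 1) 1 := by
    exact_mod_cast mul_right_cancel₀ (Nat.cast_ne_zero.2 hp.out.ne_zero : (p : ℂ) ≠ 0) hinv
  have h1 := B.mult (B.κ 1) c hc0
  have h2 := B.mult (B.κ 1) 1 one_ne_zero
  rw [h0, h2, if_pos rfl, if_neg hne] at h1
  rcases B.eps with h | h <;> omega

theorem sum_value_K (B : BlockData p z (⊥ : Subgroup G)) {θ : Cfsg.IrrCharacter G}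
    (hθ : θ ∈ B.K) : (B.m θ 0 : ℂ) * p = (B.D : ℂ) - B.ε * (H30.conjExps p z).card := by
  rw [mspec_zero, ← Finset.add_sum_erase _ _ (Finset.mem_univ (0 : ZMod p)), ZMod.val_zero, pow_zero,
    (irr_degree θ).1, B.degK θ hθ,
    Finset.sum_congr rfl fun i hi => value_K B hθ (Finset.ne_of_mem_erase hi), ← Finset.mul_sum,
    period_sum_erase fun h => (mem_fib.1 h).1 rfl, B.fiber θ hθ]
  ring

/-- The fixed points of the dihedral subgroup. -/
theorem half_bounds {e : ℕ} [NeZero e] {u : G} (F : Frame p e z u)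
    (B : BlockData p z (⊥ : Subgroup G)) (he2 : 2 ≤ e) (heven : Even e)
    (χ : Cfsg.IrrCharacter G) :
    (∃ L : ℕ, (L : ℂ) = B.m χ 0 + χ.1 (u ^ (half e).val)) ∧
      ∃ L : ℕ, (L : ℂ) = B.m χ 0 - χ.1 (u ^ (half e).val) := by
  classical
  have h0 := F.sum_mult_mul χ 0
  have h0' : ∑ k : ZMod e, (F.mult χ k : ℂ) = B.m χ 0 := by
    simp only [mul_zero, AddChar.map_zero_eq_one, mul_one] at h0
    rw [h0, inv_mul_eq_iff_eq_mul₀ (Nat.cast_ne_zero.2 hp.out.ne_zero), mul_comm, mspec_zero]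
    simp [Frame.elt]
  have h1 := F.value_eq χ (half_ne_zero (e := e) he2)
  constructor
  · refine ⟨∑ k : ZMod e, F.mult χ k * if Even k.val then 2 else 0, ?_⟩
    rw [← h0', h1, ← Finset.sum_add_distrib]
    push_cast
    refine Finset.sum_congr rfl fun k _ => ?_
    rw [mul_comm k, std_half_mul he2 heven]
    rcases Nat.even_or_odd k.val with hk | hk
    · rw [if_pos hk, hk.neg_one_pow]; ring
    · rw [if_neg (Nat.not_even_iff_odd.2 hk), hk.neg_one_pow]; ring
  · refine ⟨∑ k : ZMod e, F.mult χ k * if Even k.val then 0 else 2, ?_⟩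
    rw [← h0', h1, ← Finset.sum_sub_distrib]
    push_cast
    refine Finset.sum_congr rfl fun k _ => ?_
    rw [mul_comm k, std_half_mul he2 heven]
    rcases Nat.even_or_odd k.val with hk | hk
    · rw [if_pos hk, hk.neg_one_pow]; ring
    · rw [if_neg (Nat.not_even_iff_odd.2 hk), hk.neg_one_pow]; ring

set_option maxHeartbeats 1000000 in
/-- Only two exceptional characters. -/
theorem t_le_two {e : ℕ} [NeZero e] {u : G} (hperf : commutator G = ⊤) (S : Parts p z ⊥ H)
    (F : Frame p e z u) (B : BlockData p z (⊥ : Subgroup G))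
    (he : (H30.conjExps p z).card = e) {v : ℕ} (hv : e = 2 ^ v) (hv2 : 2 ≤ v)
    (hε : B.ε = -1) (hD : B.D + e = p) : B.t ≤ 2 := by
  classical
  set E := H30.conjExps p z with hE
  have h4 : 4 ∣ e := by
    refine ⟨2 ^ (v - 2), ?_⟩
    rw [hv, show (4 : ℕ) = 2 ^ 2 by norm_num, ← pow_add]
    congr 1
    omega
  have heven : Even e := even_iff_two_dvd.2 ((show (2 : ℕ) ∣ 4 by norm_num).trans h4)
  have he2 : 2 ≤ e := by
    have := NeZero.pos e
    obtain ⟨w, hw⟩ := h4
    omega
  have hp0 : (p : ℂ) ≠ 0 := Nat.cast_ne_zero.2 hp.out.ne_zero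
  have het : e * B.t + 1 = p := by
    have h := B.et
    rw [← hE, he] at h
    have := hp.out.one_le
    omega
  -- the period
  set η : ZMod p → ℂ := fun i => ∑ x ∈ E, (ZMod.stdAddChar (x * i) : ℂ) with hη
  have hscale : ∀ c ∈ E, ∀ i, η (c * i) = η i := by
    intro c hc i
    refine Finset.sum_nbij' (fun x => x * c) (fun x => x * c⁻¹) (fun x hx => S.mul_mem hx hc)
      (fun x hx => S.mul_mem hx (S.inv_mem hc)) (fun x _ => ?_) (fun x _ => ?_) fun x _ => ?_
    · exact mul_inv_cancel_right₀ (S.ne_zero_of_mem hc) x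
    · exact inv_mul_cancel_right₀ (S.ne_zero_of_mem hc) x
    · rw [mul_assoc]
  have hneg : (-1 : ZMod p) ∈ E := mem_exps_of_pow S (by rw [he]; exact heven.neg_one_pow)
  have hreal : ∀ i, conj (η i) = η i := by
    intro i
    conv_rhs => rw [← hscale _ hneg i]
    simp only [hη, map_sum]
    refine Finset.sum_congr rfl fun x _ => ?_
    rw [conj_std]
    congr 1
    ring
  have h0E : (0 : ZMod p) ∉ E := fun h => S.ne_zero_of_mem h rfl
  have hsum1 : ∑ i ∈ Finset.univ.erase (0 : ZMod p), η i = -(e : ℂ) := by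
    rw [← he]; exact period_sum_erase h0E
  have hη0 : η 0 = e := by
    simp [hη, AddChar.map_zero_eq_one, he]
  have hsum2 : ∑ i ∈ Finset.univ.erase (0 : ZMod p), η i ^ 2 = (p : ℂ) * e - (e : ℂ) ^ 2 := by
    have h := period_normSq_sum E
    rw [he] at h
    have h' : ∑ i : ZMod p, η i ^ 2 = (p : ℂ) * e := by
      rw [← h]
      refine Finset.sum_congr rfl fun i _ => ?_
      show η i ^ 2 = η i * conj (η i)
      rw [hreal, sq]
    rw [← Finset.add_sum_erase _ _ (Finset.mem_univ (0 : ZMod p)), hη0] at h'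
    linear_combination h'
  set θ := B.κ 1 with hθd
  have hθ : θ ∈ B.K := B.κ_mem 1 one_ne_zero
  have hval : ∀ i : ZMod p, i ≠ 0 → θ.1 (z ^ i.val) = -η i := by
    intro i hi
    rw [value_K B hθ hi, fib_one S B, hε]
    simp [hη, hE]
  -- the fixed space and the involution
  set j := u ^ (half e).val with hj
  have hj2 : j * j = 1 := by
    rw [hj, ← F.upow_add, half_add_half heven, ZMod.val_zero, pow_zero]
  have hpC : (B.D : ℂ) + e = p := by exact_mod_cast hD
  have hm0 : ∀ θ' ∈ B.K, B.m θ' 0 = 1 := by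
    intro θ' h'
    have h := sum_value_K B h'
    rw [← hE, he, hε] at h
    have h2 : (B.m θ' 0 : ℂ) * p = 1 * p := by
      rw [h, one_mul]; push_cast; linear_combination hpC
    exact_mod_cast mul_right_cancel₀ hp0 h2
  have hD4 : (4 : ℤ) ∣ (B.D : ℤ) - 1 := by
    have h1 : (B.D : ℤ) - 1 = (e : ℤ) * ((B.t : ℤ) - 1) := by
      have h2 : (B.D : ℤ) + e = p := by exact_mod_cast hD
      have h3 : (e : ℤ) * B.t + 1 = p := by exact_mod_cast het
      linear_combination h2 - h3
    rw [h1]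
    exact Dvd.dvd.mul_right (by exact_mod_cast h4) _
  have hjK : ∀ θ' ∈ B.K, θ'.1 j = 1 := by
    intro θ' h'
    obtain ⟨a, ha, h4a⟩ := four_dvd_deg_sub hperf θ' hj2
    rw [B.degK θ' h'] at h4a
    obtain ⟨⟨L, hL⟩, ⟨L', hL'⟩⟩ := half_bounds F B he2 heven θ'
    rw [← hj, ha, hm0 θ' h'] at hL hL'
    have e1 : (L : ℤ) = 1 + a := by exact_mod_cast hL
    have e2 : (L' : ℤ) = 1 - a := by exact_mod_cast hL'
    have : a = 1 := by omega
    rw [ha, this, Int.cast_one]
  obtain ⟨c, -, hc⟩ := exists_coeff (isCharacter_extSq (H26.irr_isCharacter θ))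
  have hdbl : ∀ i : ZMod p, z ^ i.val * z ^ i.val = z ^ (2 * i).val := fun i => by
    rw [two_mul, ← pow_add, ZMod.val_add]
    conv_lhs => rw [← pow_mod_orderOf, S.ord]
  have h2ne : (2 : ZMod p) ≠ 0 := by
    intro h
    have h' : ((2 : ℕ) : ZMod p) = 0 := by exact_mod_cast h
    have := (Nat.prime_dvd_prime_iff_eq hp.out Nat.prime_two).1
      ((ZMod.natCast_eq_zero_iff _ _).1 h')
    have := F.ndvd
    obtain ⟨w, hw⟩ := h4
    omega
  -- no exceptional constituent
  have hcK : ∀ θ' ∈ B.K, c θ' = 0 := by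
    choose L hL using fun χ => (half_bounds F B he2 heven χ).1
    have hsq : ∑ i : ZMod p, θ.1 (z ^ i.val) ^ 2 = (p : ℂ) * B.D := by
      rw [← Finset.add_sum_erase _ _ (Finset.mem_univ (0 : ZMod p)),
        Finset.sum_congr rfl (g := fun i => η i ^ 2)
          (fun i hi => by rw [hval i (Finset.ne_of_mem_erase hi), neg_sq]), hsum2,
        ZMod.val_zero, pow_zero, (irr_degree θ).1, B.degK θ hθ]
      linear_combination ((B.D : ℂ) - (e : ℂ)) * hpC
    have hdsum : ∑ i : ZMod p, θ.1 (z ^ i.val * z ^ i.val) = (p : ℂ) := by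
      have h := mspec_zero B θ
      rw [hm0 θ hθ, Nat.cast_one, one_mul] at h
      conv_rhs => rw [h]
      exact Fintype.sum_equiv (Equiv.mulLeft₀ 2 h2ne) _ _ fun i => by
        rw [hdbl i, Equiv.mulLeft₀_apply]
    have htot : ((∑ χ, c χ * L χ : ℕ) : ℂ) * p = 0 := by
      push_cast
      simp only [hL, ← hj, mul_add, Finset.sum_add_distrib, add_mul, Finset.sum_mul, mul_assoc,
        mspec_zero]
      have e1 : ∑ χ, (c χ : ℂ) * ∑ i : ZMod p, χ.1 (z ^ i.val) =
          ∑ i : ZMod p, extSq θ.1 (z ^ i.val) := by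
        simp only [hc, Finset.mul_sum]
        rw [Finset.sum_comm]
      have e2 : ∑ χ, (c χ : ℂ) * (χ.1 j * p) = extSq θ.1 j * p := by
        rw [hc, Finset.sum_mul]
        exact Finset.sum_congr rfl fun χ _ => by ring
      rw [e1, e2]
      simp only [extSq, ← Finset.sum_div, Finset.sum_sub_distrib, hsq, hdsum, hj2, hjK θ hθ,
        (irr_degree θ).1, B.degK θ hθ]
      ring
    have h0 : ∑ χ, c χ * L χ = 0 := by
      exact_mod_cast (mul_eq_zero.1 htot).resolve_right hp0
    intro θ' h'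
    have h := (Finset.sum_eq_zero_iff.1 h0) θ' (Finset.mem_univ _)
    have hL2 : L θ' = 2 := by
      have h2 := hL θ'
      rw [← hj, hjK θ' h', hm0 θ' h', Nat.cast_one, one_add_one_eq_two] at h2
      exact_mod_cast h2
    rw [hL2] at h
    omega
  -- the quadratic equation
  set N : ℤ := -∑ χ, (c χ : ℤ) * cc B χ with hN
  have hquad : ∀ i : ZMod p, i ≠ 0 → η i ^ 2 + η (2 * i) = 2 * (N : ℂ) := by
    intro i hi
    have h1 : extSq θ.1 (z ^ i.val) = (N : ℂ) := by
      rw [hc, hN]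
      push_cast
      rw [← Finset.sum_neg_distrib]
      refine Finset.sum_congr rfl fun χ _ => ?_
      by_cases hχ : χ ∈ B.K
      · rw [hcK χ hχ]; simp
      · rw [value_const B hχ hi]; ring
    rw [extSq, hdbl, hval i hi, hval _ (mul_ne_zero h2ne hi)] at h1
    linear_combination 2 * h1
  have hp1 : ((Finset.univ.erase (0 : ZMod p)).card : ℂ) = (e : ℂ) * B.t := by
    rw [Finset.card_erase_of_mem (Finset.mem_univ _), Finset.card_univ, ZMod.card,
      show p - 1 = e * B.t by omega, Nat.cast_mul]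
  have hsum3 : ∑ i ∈ Finset.univ.erase (0 : ZMod p), η (2 * i) = -(e : ℂ) := by
    rw [← hsum1]
    refine Finset.sum_nbij' (fun x => 2 * x) (fun x => 2⁻¹ * x) ?_ ?_ ?_ ?_ fun x _ => rfl
    · exact fun x hx => Finset.mem_erase.2 ⟨mul_ne_zero h2ne (Finset.ne_of_mem_erase hx),
        Finset.mem_univ _⟩
    · exact fun x hx => Finset.mem_erase.2 ⟨mul_ne_zero (inv_ne_zero h2ne)
        (Finset.ne_of_mem_erase hx), Finset.mem_univ _⟩
    · exact fun x _ => by rw [← mul_assoc, inv_mul_cancel₀ h2ne, one_mul]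
    · exact fun x _ => by rw [← mul_assoc, mul_inv_cancel₀ h2ne, one_mul]
  have hN2 : (2 : ℤ) * N * B.t = (e : ℤ) * ((B.t : ℤ) - 1) := by
    have h := Finset.sum_congr rfl fun i hi => hquad i (Finset.ne_of_mem_erase
      (s := (Finset.univ : Finset (ZMod p))) hi)
    rw [Finset.sum_add_distrib, hsum2, hsum3, Finset.sum_const, nsmul_eq_mul, hp1] at h
    have he0 : (e : ℂ) ≠ 0 := Nat.cast_ne_zero.2 (NeZero.ne e)
    have hpC : (e : ℂ) * B.t + 1 = p := by exact_mod_cast het
    refine Int.cast_injective (α := ℂ) (mul_left_cancel₀ he0 ?_)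
    push_cast
    linear_combination -h - (e : ℂ) * hpC
  by_contra ht
  obtain ⟨s, hs, hts⟩ : ∃ s, s ≤ v ∧ B.t = 2 ^ s := by
    have h1 : (B.t : ℤ) ∣ (e : ℤ) := by
      refine ⟨(e : ℤ) / 1 - 2 * N, ?_⟩
      rw [Int.ediv_one]
      linear_combination hN2
    exact (Nat.dvd_prime_pow Nat.prime_two).1 (hv ▸ Int.natCast_dvd_natCast.1 h1)
  have hs1 : 1 ≤ s := by
    rcases Nat.eq_zero_or_pos s with rfl | h
    · simp [hts] at ht
    · exact h
  have hsv : s + 1 ≤ v := by
    by_contra hsv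
    have hsv' : s = v := by omega
    rw [hsv', ← hv] at hts
    rw [hts] at hN2
    have h3 : 2 * N = (e : ℤ) - 1 := mul_left_cancel₀ (Int.natCast_ne_zero.2 (NeZero.ne e))
      (by linear_combination hN2)
    obtain ⟨w, hw⟩ := h4
    omega
  obtain ⟨n, hn⟩ : ∃ n, v + s = 2 ^ n := Nat.pow_of_pow_add_prime (a := 2) (by norm_num)
    (by omega) (by rw [pow_add, ← hv, ← hts, het]; exact hp.out)
  have hnv : n + 1 ≤ v := by
    by_contra hnv
    have h1 : 2 ^ v ≤ 2 ^ n := Nat.pow_le_pow_right two_pos (by omega)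
    have h2 : ∀ w : ℕ, 2 * w ≤ 2 ^ w := fun w => by
      induction w with
      | zero => simp
      | succ w ih =>
        rw [pow_succ]
        rcases Nat.eq_zero_or_pos w with rfl | hw
        · simp
        · have : 2 ≤ 2 ^ w := Nat.le_self_pow (by omega) 2
          omega
    have := h2 v
    omega
  have h2E : (2 : ZMod p) ∈ E := by
    refine mem_exps_of_pow S ?_
    have hm : (2 : ZMod p) ^ (v + s) = -1 := by
      rw [eq_neg_iff_add_eq_zero]
      have h := congrArg (Nat.cast : ℕ → ZMod p) het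
      rw [ZMod.natCast_self, hv, hts, ← pow_add] at h
      exact_mod_cast h
    rw [he, hv, show 2 ^ v = (v + s) * (2 * 2 ^ (v - (n + 1))) from by
      rw [hn, ← mul_assoc, ← pow_succ, ← pow_add]; congr 1; omega]
    rw [pow_mul, hm, pow_mul, neg_one_sq, one_pow]
  -- three periods are roots of one quadratic
  have hroot : ∀ i : ZMod p, i ≠ 0 → η i ^ 2 + η i = 2 * (N : ℂ) := fun i hi => by
    rw [← hquad i hi, hscale 2 h2E i]
  have hinj : ∀ a b : ZMod p, a ≠ 0 → b ≠ 0 → η a = η b → b ∈ E.image (a * ·) := by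
    intro a b ha hb hab
    let f : ZMod p → ℤ := fun x =>
      (if x ∈ E.image (a * ·) then 1 else 0) - (if x ∈ E.image (b * ·) then 1 else 0)
    have hpart : ∀ a : ZMod p, a ≠ 0 →
        ∑ x, ((if x ∈ E.image (a * ·) then 1 else 0 : ℤ) : ℂ) * ZMod.stdAddChar x = η a := by
      intro a ha
      push_cast
      simp only [ite_mul, one_mul, zero_mul]
      rw [Finset.sum_ite_mem, Finset.univ_inter,
        Finset.sum_image fun x _ y _ h => mul_right_injective₀ ha h]
      exact Finset.sum_congr rfl fun x _ => by rw [mul_comm]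
    have hf := H30.eq_of_sum_stdAddChar_eq_zero f (by
      simp only [f, Int.cast_sub, sub_mul, Finset.sum_sub_distrib, hpart a ha, hpart b hb, hab,
        sub_self]) b 0
    have hmem : ∀ a : ZMod p, a ≠ 0 → (0 : ZMod p) ∉ E.image (a * ·) := by
      intro a ha h
      obtain ⟨x, hx, hx0⟩ := Finset.mem_image.1 h
      exact S.ne_zero_of_mem hx ((mul_eq_zero.1 hx0).resolve_left ha)
    simp only [f, if_neg (hmem a ha), if_neg (hmem b hb), sub_zero] at hf
    rw [if_pos (Finset.mem_image.2 ⟨1, S.one_mem_conjExps, mul_one b⟩)] at hf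
    by_contra hba
    rw [if_neg hba] at hf
    norm_num at hf
  obtain ⟨a, ha0, haE⟩ : ∃ a : ZMod p, a ≠ 0 ∧ a ∉ E := by
    have hlt : E.card < (Finset.univ.erase (0 : ZMod p)).card := by
      rw [Finset.card_erase_of_mem (Finset.mem_univ _), Finset.card_univ, ZMod.card, he]
      have : e * 3 ≤ e * B.t := Nat.mul_le_mul_left e (by omega)
      omega
    obtain ⟨a, ha, ha'⟩ := Finset.exists_mem_notMem_of_card_lt_card hlt
    exact ⟨a, Finset.ne_of_mem_erase ha, ha'⟩
  obtain ⟨b, hb0, hbE, hba⟩ : ∃ b : ZMod p, b ≠ 0 ∧ b ∉ E ∧ b ∉ E.image (a * ·) := by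
    have hlt : (E ∪ E.image (a * ·)).card < (Finset.univ.erase (0 : ZMod p)).card := by
      refine (Finset.card_union_le _ _).trans_lt ?_
      rw [Finset.card_erase_of_mem (Finset.mem_univ _), Finset.card_univ, ZMod.card,
        Finset.card_image_of_injective _ (mul_right_injective₀ ha0), he]
      have : e * 3 ≤ e * B.t := Nat.mul_le_mul_left e (by omega)
      have := NeZero.pos e
      omega
    obtain ⟨b, hb, hb'⟩ := Finset.exists_mem_notMem_of_card_lt_card hlt
    rw [Finset.mem_union, not_or] at hb'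
    exact ⟨b, Finset.ne_of_mem_erase hb, hb'.1, hb'.2⟩
  have himg1 : E.image ((1 : ZMod p) * ·) = E := by simp
  have n1 : η 1 ≠ η a := fun h => haE (himg1 ▸ hinj 1 a one_ne_zero ha0 h)
  have n2 : η 1 ≠ η b := fun h => hbE (himg1 ▸ hinj 1 b one_ne_zero hb0 h)
  have n3 : η a ≠ η b := fun h => hba (hinj a b ha0 hb0 h)
  have q1 := hroot 1 one_ne_zero
  have q2 := hroot a ha0
  have q3 := hroot b hb0
  have r1 : η 1 + η a + 1 = 0 := (mul_eq_zero.1
    (by linear_combination q1 - q2 : (η 1 - η a) * (η 1 + η a + 1) = 0)).resolve_left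
    (sub_ne_zero.2 n1)
  have r2 : η 1 + η b + 1 = 0 := (mul_eq_zero.1
    (by linear_combination q1 - q3 : (η 1 - η b) * (η 1 + η b + 1) = 0)).resolve_left
    (sub_ne_zero.2 n2)
  exact n3 (by linear_combination r1 - r2)

end Cfsg.Agent.H69.PRQ
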