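import Mathlib
import Cfsg.Agent.H69.PRQ.Minus
import Cfsg.Agent.H25.TITools
import Cfsg.Agent.S0904
import Cfsg.Agent.S4503
import Cfsg.Agent.S3331
import Cfsg.Agent.H1.SmallIso

/-!
Simple groups of order `p r q ^ b`.
-/

set_option autoImplicit false
set_option linter.unusedSectionVars false

namespace Cfsg.Agent.H69.PRQ

open Cfsg.Agent.H31.Defect Cfsg.Agent.H31.FewSylow
open scoped ComplexConjugate

theorem two_pow_mod_three (j : ℕ) : 2 ^ j % 3 = 1 ∨ 2 ^ j % 3 = 2 := by
  induction j with
  | zero => exact Or.inl rfl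
  | succ j ih => rw [pow_succ]; omega

theorem dvd_three_false {x : ℕ} (hx : x.Prime) (h5 : 5 ≤ x) (h : x % 3 = 0) : False := by
  have := (Nat.prime_dvd_prime_iff_eq Nat.prime_three hx).1 (Nat.dvd_of_mod_eq_zero h)
  omega

/-- An element generating a Sylow subgroup of prime order is self-centralising. -/
theorem exists_selfCentralizing {G : Type*} [Group G] [Finite G] [IsSimpleGroup G] {p r q b : ℕ}
    [Fact p.Prime] (hr : r.Prime) (hq : q.Prime) (hpr : p ≠ r) (hpq : p ≠ q) (hrq : r ≠ q)
    (hcard : Nat.card G = p * r * q ^ b) :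
    ∃ z : G, orderOf z = p ∧ Subgroup.centralizer ({z} : Set G) = Subgroup.zpowers z := by
  obtain ⟨z, hz⟩ := exists_prime_orderOf_dvd_card' (G := G) p
    (by rw [hcard, mul_assoc]; exact dvd_mul_right _ _)
  have hP : IsPGroup p (Subgroup.zpowers z) := IsPGroup.of_card (n := 1) (by
    rw [Nat.card_zpowers, hz, pow_one])
  obtain ⟨S, hS⟩ := hP.exists_le_sylow
  have hf : (Nat.card G).factorization p = 1 := by
    have hp' : p.Prime := Fact.out
    rw [hcard, mul_assoc, Nat.factorization_mul hp'.ne_zero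
      (mul_ne_zero hr.ne_zero (pow_ne_zero _ hq.ne_zero)), Finsupp.add_apply, hp'.factorization_self,
      Nat.factorization_eq_zero_of_not_dvd]
    intro hd
    rcases hp'.dvd_mul.1 hd with h | h
    · exact hpr ((Nat.prime_dvd_prime_iff_eq hp' hr).1 h)
    · exact hpq ((Nat.prime_dvd_prime_iff_eq hp' hq).1 (hp'.dvd_of_dvd_pow h))
  have hSz : Subgroup.zpowers z = (S : Subgroup G) := Subgroup.eq_of_le_of_card_ge hS (by
    rw [S.card_eq_multiplicity, hf, pow_one, Nat.card_zpowers, hz])
  have h := S0904.result r q p 1 b hr hq hrq hpr.symm hpq.symm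
    (by rw [hcard, pow_one]; ring) S
  refine ⟨z, hz, ?_⟩
  rw [← Subgroup.centralizer_closure, ← Subgroup.zpowers_eq_closure, hSz]
  exact h

section Core

variable {G : Type*} [Group G] [Fintype G] [IsSimpleGroup G] {p : ℕ} [hp : Fact p.Prime] {z : G}

/-- The exceptional characters have degree `r`. -/
theorem degree_eq (hperf : commutator G = ⊤) (B : BlockData p z (⊥ : Subgroup G)) {r q b : ℕ}
    (hr : r.Prime) (hr5 : 5 ≤ r) (hrp : r < p) (hp2 : p % 2 = 1) (hq : q.Prime)
    (hcard : Nat.card G = p * r * q ^ b) : B.D = r := by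
  classical
  have hsmall : ∀ d : ℕ, d * (p * Nat.card (⊥ : Subgroup G)) ∣ Nat.card G → ¬ q ∣ d →
      d = 1 ∨ d = r := by
    intro d hd hqd
    rw [Subgroup.card_bot, mul_one, hcard, mul_comm d, mul_assoc] at hd
    have h1 : d ∣ r * q ^ b := Nat.dvd_of_mul_dvd_mul_left hp.out.pos hd
    exact (Nat.dvd_prime hr).1 ((Nat.Coprime.pow_right b
      ((hq.coprime_iff_not_dvd.2 hqd).symm)).dvd_of_dvd_mul_right h1)
  have hX : ∀ χ : Cfsg.IrrCharacter G, χ ≠ H26.oneIrr G → cc B χ ≠ 0 →
      q ∣ Cfsg.charDegree χ.1 := by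
    intro χ hne hc
    by_contra hqd
    rcases hsmall _ (B.dvd χ hc) hqd with h | h
    · exact hne (eq_one_of_linear hperf h)
    · have h1 := B.cong χ hc
      have h2 := abs_le.1 (B.abs_le χ)
      have hr2 : r % 2 = 1 := by
        rcases hr.eq_two_or_odd with h' | h' <;> omega
      obtain ⟨k, hk⟩ := h1
      rw [cc] at hc
      rw [h] at hk
      have : k ≤ 0 ∨ 1 ≤ k := by omega
      rcases this with hk' | hk'
      · have : (p : ℤ) * k ≤ 0 := mul_nonpos_of_nonneg_of_nonpos (by positivity) hk'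
        omega
      · have : (p : ℤ) * 1 ≤ (p : ℤ) * k := mul_le_mul_of_nonneg_left hk' (by positivity)
        omega
  have hqD : ¬ q ∣ B.D := by
    intro hd
    have h := B.deg_sum
    rw [← Finset.add_sum_erase _ _ (Finset.mem_univ (H26.oneIrr G))] at h
    have h1 : (q : ℤ) ∣ ∑ χ ∈ Finset.univ.erase (H26.oneIrr G),
        (Cfsg.charDegree χ.1 : ℤ) * (B.b χ - B.m χ 0) := by
      refine Finset.dvd_sum fun χ hχ => ?_
      by_cases hc : B.b χ - B.m χ 0 = 0
      · rw [hc, mul_zero]; exact dvd_zero _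
      · exact Dvd.dvd.mul_right
          (by exact_mod_cast hX χ (Finset.ne_of_mem_erase hχ) hc) _
    have h2 : (q : ℤ) ∣ B.ε * (B.D : ℤ) := Dvd.dvd.mul_left (by exact_mod_cast hd) _
    have hdeg : Cfsg.charDegree (H26.oneIrr G).1 = 1 :=
      Nat.cast_injective (R := ℂ) (by rw [← (irr_degree _).1, H26.oneIrr_val, Nat.cast_one])
    rw [B.b_one, B.m_one, if_pos rfl, hdeg] at h
    have h3 : (q : ℤ) ∣ 1 := by
      have h4 := dvd_add h1 h2
      push_cast at h
      have hs : (∑ χ ∈ Finset.univ.erase (H26.oneIrr G),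
          (Cfsg.charDegree χ.1 : ℤ) * (B.b χ - B.m χ 0)) + B.ε * (B.D : ℤ) = 1 := by linarith
      rwa [hs] at h4
    exact hq.ne_one (Nat.dvd_one.1 (by exact_mod_cast h3))
  refine (hsmall _ B.dvdK hqD).resolve_left fun h => B.one_not ?_
  have hθ := B.κ_mem 1 one_ne_zero
  rwa [← eq_one_of_linear hperf ((B.degK _ hθ).trans h)]

/-- The exceptional degree equals the period. -/
theorem false_of_plus (hperf : commutator G = ⊤) (B : BlockData p z (⊥ : Subgroup G)) {r q b : ℕ}
    (hr : r.Prime) (hr5 : 5 ≤ r) (hp5 : 5 ≤ p) (hq : q.Prime) (hqp : p ≠ q)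
    (hcard : Nat.card G = p * r * q ^ b) (hε : B.ε = 1) (hD : B.D = r)
    (he : (H30.conjExps p z).card = r) (hpr : p = 2 * r + 1) : False := by
  classical
  set θ := B.κ 1 with hθd
  have hθ : θ ∈ B.K := B.κ_mem 1 one_ne_zero
  obtain ⟨c, hc0, hc⟩ := exists_coeff (H25.isCharacter_mul_conj θ θ)
  have hone : c (H26.oneIrr G) = 1 := by
    refine Nat.cast_injective (R := ℂ) ?_
    rw [hc0, Nat.cast_one, ← (H26.classInner_irr θ θ).trans (if_pos rfl)]
    simp [Cfsg.classInner, H26.oneIrr_val]
  have hdeg : ∑ χ, c χ * Cfsg.charDegree χ.1 = r * r := by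
    refine Nat.cast_injective (R := ℂ) ?_
    push_cast
    have h := hc 1
    simp only [(irr_degree _).1, Complex.conj_natCast, B.degK θ hθ, hD] at h
    rw [h]
  -- the second moment
  have hK : ∀ θ' ∈ B.K, ∑ i ∈ Finset.univ.erase (0 : ZMod p), θ'.1 (z ^ i.val) = -(r : ℂ) := by
    intro θ' h'
    rw [Finset.sum_congr rfl fun i hi => value_K B h' (Finset.ne_of_mem_erase hi), ← Finset.mul_sum,
      period_sum_erase fun h => (mem_fib.1 h).1 rfl, B.fiber θ' h', he, hε]
    simp
  have hn : ∀ χ ∉ B.K, ∑ i ∈ Finset.univ.erase (0 : ZMod p), χ.1 (z ^ i.val) =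
      -(2 * (r : ℂ) * cc B χ) := by
    intro χ hχ
    rw [Finset.sum_congr rfl fun i hi => value_const B hχ (Finset.ne_of_mem_erase hi),
      Finset.sum_const, Finset.card_erase_of_mem (Finset.mem_univ _), Finset.card_univ, ZMod.card,
      nsmul_eq_mul, show p - 1 = 2 * r by omega]
    push_cast
    ring
  have hT : ∑ χ, (c χ : ℤ) * (if χ ∈ B.K then -1 else -2 * cc B χ) = (r : ℤ) + 1 := by
    refine Int.cast_injective (α := ℂ) (mul_left_cancel₀
      (Nat.cast_ne_zero.2 hr.ne_zero : (r : ℂ) ≠ 0) ?_)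
    push_cast
    have h1 : ∑ i ∈ Finset.univ.erase (0 : ZMod p), θ.1 (z ^ i.val) * conj (θ.1 (z ^ i.val)) =
        (r : ℂ) * ((r : ℂ) + 1) := by
      have h := period_normSq_sum (fib B.κ θ)
      rw [B.fiber θ hθ, he, ← Finset.add_sum_erase _ _ (Finset.mem_univ (0 : ZMod p))] at h
      simp only [mul_zero, AddChar.map_zero_eq_one, Finset.sum_const, B.fiber θ hθ, he,
        nsmul_eq_mul, mul_one, Complex.conj_natCast] at h
      have h2 : ∀ i ∈ Finset.univ.erase (0 : ZMod p), θ.1 (z ^ i.val) * conj (θ.1 (z ^ i.val)) =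
          (∑ x ∈ fib B.κ θ, (ZMod.stdAddChar (x * i) : ℂ)) *
            conj (∑ y ∈ fib B.κ θ, (ZMod.stdAddChar (y * i) : ℂ)) := fun i hi => by
        rw [value_K B hθ (Finset.ne_of_mem_erase hi), hε, Int.cast_one, one_mul]
      rw [Finset.sum_congr rfl h2]
      have hpC : (p : ℂ) = 2 * r + 1 := by exact_mod_cast hpr
      linear_combination h + (r : ℂ) * hpC
    have h3 : ∑ i ∈ Finset.univ.erase (0 : ZMod p), θ.1 (z ^ i.val) * conj (θ.1 (z ^ i.val)) =
        ∑ χ, (c χ : ℂ) * ∑ i ∈ Finset.univ.erase (0 : ZMod p), χ.1 (z ^ i.val) := by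
      simp only [Finset.mul_sum]
      rw [Finset.sum_comm]
      exact Finset.sum_congr rfl fun i _ => hc (z ^ i.val)
    rw [← h1, h3, Finset.mul_sum]
    refine Finset.sum_congr rfl fun χ _ => ?_
    split_ifs with hχ
    · rw [hK χ hχ]; push_cast; ring
    · rw [hn χ hχ]; push_cast; ring
  set P := (Finset.univ.erase (H26.oneIrr G)).filter (fun χ => χ ∉ B.K ∧ cc B χ = -1) with hP
  have hPdeg : ∀ χ ∈ P, p + 1 ≤ Cfsg.charDegree χ.1 := by
    intro χ hχ
    simp only [hP, Finset.mem_filter, Finset.mem_erase] at hχ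
    have h1 : (p : ℤ) ∣ (Cfsg.charDegree χ.1 : ℤ) + (B.b χ - B.m χ 0) := B.cong χ (by
      have := hχ.2.2
      rw [cc] at this
      omega)
    rw [show B.b χ - B.m χ 0 = -1 from hχ.2.2] at h1
    have hd : 2 ≤ Cfsg.charDegree χ.1 := by
      by_contra hlt
      have hpos : Cfsg.charDegree χ.1 ≠ 0 := fun h0 => H26.irr_one_ne_zero χ (by
        rw [(irr_degree χ).1, h0, Nat.cast_zero])
      exact hχ.1.1 (eq_one_of_linear hperf (by omega))
    have := Int.le_of_dvd (by omega) h1
    omega
  have hle : (r : ℤ) + 1 ≤ 2 + 2 * ∑ χ ∈ P, (c χ : ℤ) := by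
    rw [← hT, ← Finset.add_sum_erase _ _ (Finset.mem_univ (H26.oneIrr G)), hone, if_neg B.one_not,
      cc_one, hP, Finset.mul_sum, Finset.sum_filter]
    refine add_le_add (by norm_num) (Finset.sum_le_sum fun χ _ => ?_)
    have hc' : (0 : ℤ) ≤ c χ := Nat.cast_nonneg _
    by_cases hχ : χ ∈ B.K
    · rw [if_pos hχ, if_neg (fun h => h.1 hχ)]; linarith
    · rw [if_neg hχ]
      have h2 := abs_le.1 (B.abs_le χ)
      split_ifs with h
      · rw [h.2]; linarith
      · have : 0 ≤ cc B χ := by
          by_contra hlt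
          exact h ⟨hχ, by rw [cc] at hlt ⊢; omega⟩
        nlinarith
  have hsumP : 1 + ∑ χ ∈ P, c χ * Cfsg.charDegree χ.1 ≤ r * r := by
    rw [← hdeg, ← Finset.add_sum_erase _ _ (Finset.mem_univ (H26.oneIrr G)), hone, one_mul,
      show Cfsg.charDegree (H26.oneIrr G).1 = 1 from Nat.cast_injective (R := ℂ)
        (by rw [← (irr_degree _).1, H26.oneIrr_val, Nat.cast_one])]
    exact add_le_add le_rfl (Finset.sum_le_sum_of_subset (Finset.filter_subset _ _))
  have hlow : (p + 1) * ∑ χ ∈ P, c χ ≤ ∑ χ ∈ P, c χ * Cfsg.charDegree χ.1 := by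
    rw [Finset.mul_sum]
    exact Finset.sum_le_sum fun χ hχ => by
      rw [mul_comm]; exact Nat.mul_le_mul_left _ (hPdeg χ hχ)
  have hle' : r + 1 ≤ 2 + 2 * ∑ χ ∈ P, c χ := by exact_mod_cast hle
  obtain ⟨χ, hχ, hd⟩ : ∃ χ ∈ P, Cfsg.charDegree χ.1 = p + 1 := by
    by_contra hno
    simp only [not_exists, not_and] at hno
    have hlow' : (p + 2) * ∑ χ ∈ P, c χ ≤ ∑ χ ∈ P, c χ * Cfsg.charDegree χ.1 := by
      rw [Finset.mul_sum]
      exact Finset.sum_le_sum fun χ hχ => by
        rw [mul_comm]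
        exact Nat.mul_le_mul_left _ (lt_of_le_of_ne (hPdeg χ hχ) (Ne.symm (hno χ hχ)))
    subst hpr
    nlinarith
  simp only [hP, Finset.mem_filter] at hχ
  have hdvd := B.dvd χ (by
    have := hχ.2.2
    rw [cc] at this
    omega)
  rw [Subgroup.card_bot, mul_one, hcard, hd, mul_comm (p + 1), mul_assoc] at hdvd
  have h1 : p + 1 ∣ r * q ^ b := Nat.dvd_of_mul_dvd_mul_left hp.out.pos hdvd
  have hcop : Nat.Coprime (p + 1) r := (hr.coprime_iff_not_dvd.2 fun h => by
    have h2 : r ∣ 2 * r + 2 := by rwa [show p + 1 = 2 * r + 2 by omega] at h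
    have := Nat.le_of_dvd two_pos ((Nat.dvd_add_right (Dvd.intro_left 2 rfl)).1 h2)
    omega).symm
  obtain ⟨j, -, hj⟩ := (Nat.dvd_prime_pow hq).1 (hcop.dvd_of_dvd_mul_left h1)
  have hq2 : q = 2 := by
    have h2 : 2 ∣ q ^ j := by rw [← hj]; omega
    exact ((Nat.prime_dvd_prime_iff_eq Nat.prime_two hq).1 (Nat.prime_two.dvd_of_dvd_pow h2)).symm
  subst hq2
  rcases j with _ | j
  · simp at hj; omega
  rw [pow_succ] at hj
  rcases two_pow_mod_three j with h | h
  · exact dvd_three_false hr hr5 (by omega)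
  · exact dvd_three_false hp.out hp5 (by omega)

/-- No group has both prime divisors at least five. -/
theorem false_core (hperf : commutator G = ⊤) {r q b : ℕ} (hr : r.Prime) (hq : q.Prime)
    (hr5 : 5 ≤ r) (hrp : r < p) (hqp : p ≠ q) (hcard : Nat.card G = p * r * q ^ b)
    (hz : orderOf z = p) (hC : Subgroup.centralizer ({z} : Set G) = Subgroup.zpowers z) :
    False := by
  classical
  have hp5 : 5 ≤ p := by omega
  have hp2 : p % 2 = 1 := hp.out.eq_two_or_odd.resolve_left (by omega)
  have hr2 : r % 2 = 1 := hr.eq_two_or_odd.resolve_left (by omega)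
  have hsq := not_sq_dvd hz hC
  obtain ⟨V, H, S⟩ := exists_parts hz hsq
  obtain rfl : V = ⊥ := by
    rw [eq_bot_iff]
    intro v hv
    rw [Subgroup.mem_bot]
    have h1 : v ∈ Subgroup.zpowers z := hC ▸ S.le_cent hv
    have ho := orderOf_dvd_natCard (⟨v, h1⟩ : Subgroup.zpowers z)
    rw [Nat.card_zpowers, hz, Subgroup.orderOf_mk] at ho
    rcases (Nat.dvd_prime hp.out).1 ho with h | h
    · exact orderOf_eq_one_iff.1 h
    · have h2 := orderOf_dvd_natCard (⟨v, hv⟩ : ((_ : Subgroup G)))
      rw [Subgroup.orderOf_mk, h] at h2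
      exact absurd h2 S.ndvd_V
  obtain ⟨B⟩ := S.nonempty_blockData
  set e := (H30.conjExps p z).card with hedef
  have hD := degree_eq hperf B hr hr5 hrp hp2 hq hcard
  have het : e * B.t + 1 = p := by
    have h := B.et
    rw [← hedef] at h
    omega
  have hN : Nat.card (Subgroup.normalizer ((Subgroup.zpowers z : Subgroup G) : Set G)) = p * e := by
    rw [card_normalizer S, Subgroup.card_bot, mul_one]
  have hedvd : e ∣ r * q ^ b := by
    have h := Subgroup.card_subgroup_dvd_card
      (Subgroup.normalizer ((Subgroup.zpowers z : Subgroup G) : Set G))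
    rw [hN, hcard, mul_assoc] at h
    exact Nat.dvd_of_mul_dvd_mul_left hp.out.pos h
  have hepos : 0 < e := Nat.pos_of_ne_zero fun h => by rw [h, zero_mul] at het; omega
  have htpos : 0 < B.t := Nat.pos_of_ne_zero fun h => by rw [h, mul_zero] at het; omega
  have helt : e < p := by
    have := Nat.le_mul_of_pos_right e htpos
    omega
  have hcong := B.congK
  rw [hD, ← hedef] at hcong
  rcases B.eps with hε | hε
  · rw [hε, one_mul] at hcong
    have her : e = r := by
      have : (r : ℤ) - e = 0 := Int.eq_zero_of_abs_lt_dvd hcong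
        (abs_lt.2 ⟨by omega, by omega⟩)
      omega
    have hb : p ≤ 2 * r + 1 := by
      have h := S4503.result p hp.out
        (by rw [hcard, mul_assoc]; exact dvd_mul_right _ _) hsq ?_ (B.κ 1).1
        (H26.irr_isCharacter _) ?_
      · rwa [B.degK _ (B.κ_mem 1 one_ne_zero), hD] at h
      · intro M hM hc
        rcases hM.eq_bot_or_eq_top with h | h <;> subst h
        · rw [Subgroup.card_bot] at hc; omega
        · rw [Subgroup.card_top, hcard, mul_assoc] at hc
          have h1 := Nat.eq_of_mul_eq_mul_left hp.out.pos (hc.trans (mul_one p).symm)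
          exact hr.ne_one (Nat.eq_one_of_mul_eq_one_right h1)
      · intro g hg
        exact faithful (fun h => B.one_not (by rw [← h]; exact B.κ_mem 1 one_ne_zero)) hg
    have ht : B.t = 2 := by
      rw [her] at het
      rcases Nat.lt_trichotomy B.t 2 with h | h | h
      · obtain h1 : B.t = 1 := by omega
        rw [h1] at het; omega
      · exact h
      · have := Nat.mul_le_mul_left r (show 3 ≤ B.t by omega)
        omega
    rw [her, ht] at het
    exact false_of_plus hperf B hr hr5 hp5 hq hqp hcard hε hD her (by omega)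
  · rw [hε] at hcong
    have hre : r + e = p := by
      obtain ⟨k, hk⟩ := hcong
      have hk1 : k = 1 := by
        rcases le_or_gt k 0 with h | h
        · have : (p : ℤ) * k ≤ 0 := mul_nonpos_of_nonneg_of_nonpos (by positivity) h
          omega
        · rcases le_or_gt k 1 with h' | h'
          · omega
          · have : (p : ℤ) * 2 ≤ (p : ℤ) * k := mul_le_mul_of_nonneg_left h' (by positivity)
            omega
      rw [hk1] at hk
      omega
    have hler : e < r := by
      rcases Nat.lt_or_ge B.t 2 with h | h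
      · obtain h1 : B.t = 1 := by omega
        rw [h1] at het; omega
      · have := Nat.mul_le_mul_left e h
        omega
    have hcop : Nat.Coprime e r := (hr.coprime_iff_not_dvd.2 fun h => by
      have := Nat.le_of_dvd hepos h; omega).symm
    obtain ⟨v, -, hv⟩ := (Nat.dvd_prime_pow hq).1 (hcop.dvd_of_dvd_mul_left hedvd)
    have hq2 : q = 2 := by
      have h2 : 2 ∣ q ^ v := by rw [← hv]; omega
      exact ((Nat.prime_dvd_prime_iff_eq Nat.prime_two hq).1
        (Nat.prime_two.dvd_of_dvd_pow h2)).symm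
    subst hq2
    rcases Nat.lt_or_ge v 2 with hv2 | hv2
    · obtain rfl : v = 1 := by
        rcases Nat.eq_zero_or_pos v with rfl | h
        · simp at hv; omega
        · omega
      rw [pow_one] at hv
      have hsq2 : ∑ χ, (B.b χ - B.m χ 0) ^ 2 = (2 : ℤ) := by
        rw [B.sq_sum, ← hedef, hv]; norm_num
      have hds := B.deg_sum
      have hone : B.b (H26.oneIrr G) - B.m (H26.oneIrr G) 0 = -1 := cc_one B
      have hdeg : Cfsg.charDegree (H26.oneIrr G).1 = 1 :=
        Nat.cast_injective (R := ℂ) (by rw [← (irr_degree _).1, H26.oneIrr_val, Nat.cast_one])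
      rw [← Finset.add_sum_erase _ _ (Finset.mem_univ (H26.oneIrr G)), hone] at hsq2
      rw [← Finset.add_sum_erase _ _ (Finset.mem_univ (H26.oneIrr G)), hone, hdeg, hε, hD] at hds
      obtain ⟨χ, hχ, hχ0⟩ : ∃ χ ∈ Finset.univ.erase (H26.oneIrr G),
          B.b χ - B.m χ 0 ≠ 0 := by
        by_contra hno
        simp only [not_exists, not_and, not_not] at hno
        rw [Finset.sum_eq_zero fun χ hχ => by rw [hno χ hχ]; norm_num] at hsq2
        norm_num at hsq2
      rw [← Finset.add_sum_erase _ _ hχ] at hsq2 hds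
      have habs := abs_le.1 (B.abs_le χ)
      have hu : (B.b χ - B.m χ 0) ^ 2 = 1 := by
        rcases (by omega : B.b χ - B.m χ 0 = 1 ∨ B.b χ - B.m χ 0 = -1) with h | h <;>
          rw [h] <;> norm_num
      rw [hu] at hsq2
      have hrest : ∀ x ∈ (Finset.univ.erase (H26.oneIrr G)).erase χ,
          (B.b x - B.m x 0) ^ 2 = 0 :=
        (Finset.sum_eq_zero_iff_of_nonneg fun x _ => sq_nonneg _).1 (by linarith)
      rw [Finset.sum_eq_zero fun x hx => by rw [(pow_eq_zero_iff (by norm_num)).1 (hrest x hx),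
        mul_zero]] at hds
      have hd : Cfsg.charDegree χ.1 = r + 1 := by
        rcases (by omega : B.b χ - B.m χ 0 = 1 ∨ B.b χ - B.m χ 0 = -1) with h | h <;>
          rw [h] at hds <;> push_cast at hds <;> omega
      have hdvd := B.dvd χ hχ0
      rw [Subgroup.card_bot, mul_one, hcard, hd, mul_comm (r + 1), mul_assoc] at hdvd
      have h1 : r + 1 ∣ r * 2 ^ b := Nat.dvd_of_mul_dvd_mul_left hp.out.pos hdvd
      obtain ⟨j, -, hj⟩ := (Nat.dvd_prime_pow Nat.prime_two).1
        ((Nat.coprime_self_add_left.2 (Nat.coprime_one_left r) : Nat.Coprime (r + 1) r).dvd_of_dvd_mul_left h1)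
      rcases two_pow_mod_three j with h | h
      · exact dvd_three_false hr hr5 (by omega)
      · exact dvd_three_false hp.out hp5 (by omega)
    · have : NeZero e := ⟨hepos.ne'⟩
      have he2 : 2 ≤ (H30.conjExps p z).card := by
        rw [← hedef, hv]; exact Nat.le_self_pow (by omega) 2
      obtain ⟨u, F⟩ := exists_frame S hC hN he2
      have ht := t_le_two hperf S F B rfl hv hv2 hε (by rw [hD]; exact hre)
      rcases (by omega : B.t = 1 ∨ B.t = 2) with h1 | h1 <;> rw [h1] at het
      · omega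
      · rcases two_pow_mod_three v with h | h
        · exact dvd_three_false hp.out hp5 (by omega)
        · exact dvd_three_false hr hr5 (by omega)

end Core

/-- An involution is not self-centralising in a perfect group. -/
theorem false_of_two {G : Type*} [Group G] [Finite G] (hperf : commutator G = ⊤) {x : G}
    (hx : orderOf x = 2) (hC : Subgroup.centralizer ({x} : Set G) = Subgroup.zpowers x) : False := by
  classical
  let _ : Fintype G := Fintype.ofFinite G
  have : Fact (Nat.Prime 2) := ⟨Nat.prime_two⟩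
  have hsq := not_sq_dvd hx hC
  have hne := normalizer_ne_top hperf hx hC
  obtain ⟨V, H, S⟩ := exists_parts hx hsq
  obtain ⟨B⟩ := S.nonempty_blockData
  have het := B.et
  have he : (H30.conjExps 2 x).card = 1 := Nat.eq_one_of_mul_eq_one_right (het.trans rfl)
  have hD := B.deg_sum
  rw [Finset.sum_eq_single (H26.oneIrr G) (fun χ _ hχ => ?_) (fun h => absurd (Finset.mem_univ _) h),
    B.b_one, B.m_one, if_pos rfl] at hD
  · have hdeg : Cfsg.charDegree (H26.oneIrr G).1 = 1 :=
      Nat.cast_injective (R := ℂ) (by rw [← (irr_degree _).1, H26.oneIrr_val, Nat.cast_one])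
    rw [hdeg] at hD
    have hθ := B.κ_mem 1 one_ne_zero
    have hD1 : B.D = 1 := by
      rcases B.eps with h | h <;> rw [h] at hD <;> push_cast at hD <;> omega
    exact B.one_not (eq_one_of_linear hperf ((B.degK _ hθ).trans hD1) ▸ hθ)
  · have hsq2 := B.sq_sum
    rw [he, ← Finset.add_sum_erase _ _ (Finset.mem_univ (H26.oneIrr G)), B.b_one, B.m_one,
      if_pos rfl] at hsq2
    push_cast at hsq2
    have hs0 : ∑ y ∈ Finset.univ.erase (H26.oneIrr G), (B.b y - (B.m y 0 : ℤ)) ^ 2 = 0 := by
      linear_combination hsq2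
    have h := (Finset.sum_eq_zero_iff_of_nonneg fun y _ => sq_nonneg (B.b y - (B.m y 0 : ℤ))).1 hs0
      χ (Finset.mem_erase.2 ⟨hχ, Finset.mem_univ _⟩)
    rw [(pow_eq_zero_iff (by norm_num)).1 h, mul_zero]

/-- A self-centralising subgroup of order three. -/
theorem of_three {G : Type*} [Group G] [Finite G] [IsSimpleGroup G] (hG : ¬ IsCyclic G) {z : G}
    (hz : orderOf z = 3) (hC : Subgroup.centralizer ({z} : Set G) = Subgroup.zpowers z) :
    (∃ (F : Type) (_ : Field F) (_ : Fintype F), Fintype.card F = 5 ∧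
        Nonempty (G ≃* Matrix.ProjectiveSpecialLinearGroup (Fin 2) F)) ∨
      (∃ (F : Type) (_ : Field F) (_ : Fintype F), Fintype.card F = 7 ∧
        Nonempty (G ≃* Matrix.ProjectiveSpecialLinearGroup (Fin 2) F)) := by
  have : Fact (Nat.Prime 5) := ⟨Nat.prime_five⟩
  have : Fact (Nat.Prime 7) := ⟨by norm_num⟩
  have hperf := perfect_of_simple hG
  rcases S3331.result (Subgroup.zpowers z) (by rw [Nat.card_zpowers, hz]) (by
    rw [Subgroup.zpowers_eq_closure, Subgroup.centralizer_closure, ← Subgroup.zpowers_eq_closure]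
    exact hC) with ⟨N, hN, hnil, hcop, h3⟩ | ⟨N, hN, hcomm, -, ⟨f⟩⟩ | h7
  · exfalso
    rcases hN.eq_bot_or_eq_top with h | h <;> subst h
    · rcases h3 with h | ⟨⟨g⟩⟩
      · rw [Nat.card_congr QuotientGroup.quotientBot.toEquiv] at h
        have : Fact (Nat.Prime 3) := ⟨Nat.prime_three⟩
        exact hG (isCyclic_of_prime_card h)
      · let φ : G →* ℤˣ := Equiv.Perm.sign.comp
          (g.toMonoidHom.comp (QuotientGroup.mk' (⊥ : Subgroup G)))
        have hk : commutator G ≤ φ.ker := Abelianization.commutator_subset_ker φ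
        rw [hperf, top_le_iff] at hk
        obtain ⟨x, hx⟩ := QuotientGroup.mk'_surjective (⊥ : Subgroup G) (g.symm (Equiv.swap 0 1))
        have hx1 : φ x = 1 := MonoidHom.mem_ker.1 (hk ▸ Subgroup.mem_top x)
        simp only [φ, MonoidHom.comp_apply, MulEquiv.coe_toMonoidHom, hx, MulEquiv.apply_symm_apply,
          Equiv.Perm.sign_swap (by decide : (0 : Fin 3) ≠ 1)] at hx1
        exact absurd hx1 (by decide)
    · rw [Subgroup.card_top] at hcop
      have hd : 3 ∣ Nat.card G := hz ▸ orderOf_dvd_natCard z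
      have := Nat.eq_one_of_dvd_coprimes hcop hd dvd_rfl
      omega
  · rcases hN.eq_bot_or_eq_top with h | h <;> subst h
    · obtain ⟨a⟩ := H1.PSL_two_five_equiv_alternating (F := ZMod 5) (ZMod.card 5)
      exact Or.inl ⟨ZMod 5, inferInstance, inferInstance, ZMod.card 5,
        ⟨(QuotientGroup.quotientBot.symm.trans f).trans a.symm⟩⟩
    · exfalso
      have h := Nat.card_congr f.toEquiv
      rw [show Nat.card (G ⧸ (⊤ : Subgroup G)) = 1 from Subgroup.index_top,
        nat_card_alternatingGroup, Nat.card_fin] at h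
      norm_num [Nat.factorial] at h
  · exact Or.inr ⟨ZMod 7, inferInstance, inferInstance, ZMod.card 7, h7⟩

end Cfsg.Agent.H69.PRQ
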