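import Mathlib
import Cfsg.Agent.S0202
import Cfsg.Agent.S0942
import Cfsg.Agent.S0944
import Cfsg.Agent.S0946
import Cfsg.Agent.S0948
import Cfsg.Agent.S0992
import Cfsg.Agent.S4479
import Cfsg.Agent.S0494
import Cfsg.Agent.H25.Burnside
import Cfsg.Agent.H42.MaxIdeal
import Cfsg.Agent.H42.DegreeBound
import Cfsg.Agent.H69.PRQ.Main

/-!
Simple groups of order `4 p ^ a q ^ b` and `3 p ^ a q ^ b`.
-/

set_option autoImplicit false
set_option linter.unusedSectionVars false

namespace Cfsg.Agent.H69.PRQ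

/-- A character of the principal 2-block takes one value on all elements of even order. -/
theorem value_even_order {G : Type*} [Group G] [Finite G] (M : Ideal Cfsg.AlgInt)
    (hM : Cfsg.IsPModular 2 M) (P : Sylow 2 G) (hP : IsKleinFour (P : Subgroup G))
    (hone : ∀ s t : G, orderOf s = 2 → orderOf t = 2 → IsConj s t) {g w : G}
    (hg : 2 ∣ orderOf g) (hw : orderOf w = 2) (ζ : Cfsg.IrrCharacter G)
    (hζ : ζ ∈ Cfsg.principalBlock M G) : (ζ : G → ℂ) g = (ζ : G → ℂ) w := by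
  classical
  haveI : Fact (Nat.Prime 2) := ⟨Nat.prime_two⟩
  haveI := hM.2.1
  haveI := Fintype.ofFinite G
  haveI := hP
  have hP4 : Nat.card (P : Subgroup G) = 4 := IsKleinFour.card_four
  have hfac : (Nat.card G).factorization 2 = 2 := by
    have := P.card_eq_multiplicity
    rw [hP4] at this
    exact Nat.pow_right_injective le_rfl this.symm
  have hord : ∀ a ∈ (P : Subgroup G), a ≠ 1 → orderOf a = 2 := fun a ha ha1 =>
    orderOf_eq_prime (by
      have := IsKleinFour.mul_self (⟨a, ha⟩ : (P : Subgroup G))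
      simpa [pow_two, Subtype.ext_iff] using this) ha1
  obtain ⟨z, hzP, hz1⟩ := (P : Subgroup G).ne_bot_iff_exists_ne_one.1 (fun h => by
    have h' := hP4
    rw [h, Subgroup.card_bot] at h'
    omega) |> fun ⟨⟨a, ha⟩, h⟩ => (⟨a, ha, fun e => h (Subtype.ext e)⟩ :
      ∃ a ∈ (P : Subgroup G), a ≠ 1)
  have hz2 : orderOf z = 2 := hord z hzP hz1
  have hzpow : ∃ k, orderOf z = 2 ^ k := ⟨1, by rw [hz2, pow_one]⟩
  set B := Cfsg.principalBlock M G with hB
  haveI := Fintype.ofFinite (Subgroup.centralizer ({z} : Set G))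
  have hPC : (P : Subgroup G) ≤ Subgroup.centralizer ({z} : Set G) := fun a ha =>
    Subgroup.mem_centralizer_singleton_iff.2 (congrArg Subtype.val
      (mul_comm_of_exponent_two (G := (P : Subgroup G)) IsKleinFour.exponent_two ⟨a, ha⟩ ⟨z, hzP⟩))
  let Q : Sylow 2 (Subgroup.centralizer ({z} : Set G)) := P.subtype hPC
  have eQ : (Q : Subgroup (Subgroup.centralizer ({z} : Set G))) ≃* (P : Subgroup G) :=
    Subgroup.subgroupOfEquivOfLe hPC
  haveI : IsKleinFour (Multiplicative (ZMod (2 ^ 1) × ZMod (2 ^ 1))) :=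
    inferInstanceAs (IsKleinFour (Multiplicative (ZMod 2 × ZMod 2)))
  obtain ⟨e⟩ := IsKleinFour.nonempty_mulEquiv (G₁ := (P : Subgroup G))
    (G₂ := Multiplicative (ZMod (2 ^ 1) × ZMod (2 ^ 1)))
  have hnc : ∃ k : ℕ, (Cfsg.pPrimeCore 2 (Subgroup.centralizer ({z} : Set G))).index = 2 ^ k := by
    rcases Cfsg.Agent.S0946.result Q 1 le_rfl (eQ.trans e) with ⟨N, hN, hcompl⟩ | hconj
    · have hQ4 : Nat.card (Q : Subgroup (Subgroup.centralizer ({z} : Set G))) = 4 :=
        (Nat.card_congr eQ.toEquiv).trans hP4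
      have hidx : N.index = 2 ^ 2 := by rw [hcompl.symm.index_eq_card, hQ4]; norm_num
      have hcop : (Nat.card N).Coprime 2 := by
        refine ((Nat.prime_two.coprime_iff_not_dvd).2 fun h2 => Q.not_dvd_index ?_).symm
        rwa [hcompl.index_eq_card]
      have hle := Subgroup.index_dvd_of_le (Cfsg.Agent.H19.le_pPrimeCore hN hcop)
      rw [hidx] at hle
      obtain ⟨k, -, hk⟩ := (Nat.dvd_prime_pow Nat.prime_two).1 hle
      exact ⟨k, hk⟩
    · exfalso
      obtain ⟨⟨a, ha⟩, ha1⟩ : ∃ a : (P : Subgroup G), a ≠ 1 ∧ (a : G) ≠ z := by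
        by_contra h
        push_neg at h
        have : Nat.card (P : Subgroup G) ≤ 2 := by
          rw [Nat.card_eq_fintype_card, ← Finset.card_univ]
          refine (Finset.card_le_card (t := {1, ⟨z, hzP⟩}) fun a _ => ?_).trans Finset.card_le_two
          by_cases h1 : a = 1 <;> simp [h1, Subtype.ext_iff]
          exact h a h1
        omega
      have hc := hconj ⟨z, hPC hzP⟩ ⟨a, hPC ha⟩ (by rw [← hz2, ← Subgroup.orderOf_coe])
        (by rw [← Subgroup.orderOf_coe]; exact hord a ha fun e => ha1.1 (Subtype.ext e))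
      obtain ⟨c, hc⟩ := isConj_iff.1 hc
      refine ha1.2 ?_
      rw [← congrArg Subtype.val hc]
      simp only [Subgroup.coe_mul, Subgroup.coe_inv]
      rw [Subgroup.mem_centralizer_singleton_iff.1 c.2, mul_inv_cancel_right]
  -- values on singular elements
  have hsing : ∀ g : G, 2 ∣ orderOf g → ∀ ζ ∈ B, (ζ : G → ℂ) g = (ζ : G → ℂ) z := by
    intro g hg ζ hζ
    obtain ⟨x, hx⟩ := Cfsg.Agent.H40.exists_isPPart 2 g
    have hx1 : x ≠ 1 := fun h => (Cfsg.Agent.H40.regular_iff_pPart_eq_one hx).2 h hg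
    have hx2 : orderOf x = 2 := by
      obtain ⟨y, -, -, ⟨j, hj⟩, -⟩ := id hx
      obtain ⟨R, hR⟩ := (IsPGroup.of_card (p := 2) (n := j)
        (G := Subgroup.zpowers x) (by rw [Nat.card_zpowers, hj])).exists_le_sylow
      obtain ⟨u, hu⟩ := MulAction.exists_smul_eq G R P
      have hmem : u * x * u⁻¹ ∈ (P : Subgroup G) := by
        rw [← hu]
        exact Subgroup.smul_mem_pointwise_smul _ (MulAut.conj u) _ (hR (Subgroup.mem_zpowers x))
      rw [← MulEquiv.orderOf_eq (MulAut.conj u) x, MulAut.conj_apply]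
      exact hord _ hmem (fun e => hx1 (by
        have := congrArg (fun w => u⁻¹ * w * u) e
        simpa [mul_assoc] using this))
    obtain ⟨u, hu⟩ := isConj_iff.1 (hone x z hx2 hz2)
    have hx' := Cfsg.Agent.H40.isPPart_conj u hx
    rw [hu] at hx'
    obtain ⟨y, hy, hzy, -, hyreg⟩ := hx'
    have hyC : y ∈ Subgroup.centralizer ({z} : Set G) :=
      Subgroup.mem_centralizer_singleton_iff.2 hzy.eq.symm
    have hyN : y ∈ Cfsg.centralizerPPrimeCore 2 z := by
      haveI := Cfsg.Agent.H19.pPrimeCore_normal 2 (Subgroup.centralizer ({z} : Set G))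
      refine Subgroup.mem_map.2 ⟨⟨y, hyC⟩, Cfsg.Agent.H41.mem_of_regular_of_index _ hnc ?_, rfl⟩
      rwa [← Subgroup.orderOf_coe]
    rw [← Cfsg.Agent.H26.irr_conj ζ g u, ← hy]
    exact Cfsg.Agent.S0942.result 2 M hM z hzpow y hyN ζ hζ
  exact (hsing g hg ζ hζ).trans (hsing w (by rw [hw]) ζ hζ).symm

set_option maxHeartbeats 1000000 in
/-- The only signed degree pattern. -/
theorem degree_pattern {r : ℕ} (hr : r.Prime) (hr3 : r ≠ 3) (y : Fin 3 → ℤ)
    (hsum : 1 + y 0 + y 1 + y 2 = 0) (hy : ∀ i, y i ≠ 1 ∧ y i ≠ -1)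
    (hy' : ∀ i, ∃ a b : ℕ, (y i).natAbs = 3 ^ a * r ^ b)
    (hy1 : ∀ i, ∃ a b : ℕ, (y i + 1).natAbs = 2 * (3 ^ a * r ^ b)) :
    ∀ i, y i = 5 ∨ y i = -3 := by
  have hpure : ∀ i, ((3 : ℤ) ∣ y i ↔ ¬ (r : ℤ) ∣ y i) := by
    intro i
    obtain ⟨a, b, h⟩ := hy' i
    constructor
    · intro h3 hr'
      obtain ⟨c, d, h1⟩ := hy1 i
      have hc : c = 0 := by
        rcases Nat.eq_zero_or_pos c with h0 | h0
        · exact h0
        · obtain ⟨c', rfl⟩ : ∃ c', c = c' + 1 := ⟨c - 1, by omega⟩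
          have : 3 ∣ (y i + 1).natAbs := h1 ▸ ⟨2 * (3 ^ c' * r ^ d), by ring⟩
          omega
      have hd : d = 0 := by
        rcases Nat.eq_zero_or_pos d with h0 | h0
        · exact h0
        · obtain ⟨d', rfl⟩ : ∃ d', d = d' + 1 := ⟨d - 1, by omega⟩
          have h4 : (r : ℤ) ∣ y i + 1 := Int.natCast_dvd.2 (h1 ▸ ⟨2 * (3 ^ c * r ^ d'), by ring⟩)
          have h5 := dvd_sub h4 hr'
          rw [add_sub_cancel_left] at h5
          exact absurd (Nat.dvd_one.1 (by exact_mod_cast h5)) hr.ne_one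
      rw [hc, hd] at h1
      norm_num at h1
      have : y i = 1 ∨ y i = -3 := by omega
      rcases this with h' | h'
      · exact (hy i).1 h'
      · rw [h'] at hr'
        have : r ∣ 3 := by exact_mod_cast (dvd_neg.1 hr')
        exact hr3 ((Nat.prime_dvd_prime_iff_eq hr Nat.prime_three).1 this)
    · intro hnr
      rcases Nat.eq_zero_or_pos a with h0 | h0
      · subst h0
        rcases Nat.eq_zero_or_pos b with hb | hb
        · subst hb
          norm_num at h
          have := hy i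
          omega
        · exact absurd (Int.natCast_dvd.2 (h ▸ (dvd_pow_self r hb.ne').trans (dvd_mul_left _ _))) hnr
      · exact Int.natCast_dvd.2 (h ▸ (dvd_pow_self 3 h0.ne').trans (dvd_mul_right _ _))
  have hrB : ∀ i, ¬ (3 : ℤ) ∣ y i → (3 : ℤ) ∣ y i + 1 := by
    intro i h3
    obtain ⟨c, d, h1⟩ := hy1 i
    have hr' : (r : ℤ) ∣ y i := not_not.1 fun h => h3 ((hpure i).2 h)
    have hd : d = 0 := by
      rcases Nat.eq_zero_or_pos d with h0 | h0
      · exact h0
      · obtain ⟨d', rfl⟩ : ∃ d', d = d' + 1 := ⟨d - 1, by omega⟩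
        have h4 : (r : ℤ) ∣ y i + 1 := Int.natCast_dvd.2 (h1 ▸ ⟨2 * (3 ^ c * r ^ d'), by ring⟩)
        have h5 := dvd_sub h4 hr'
        rw [add_sub_cancel_left] at h5
        exact absurd (Nat.dvd_one.1 (by exact_mod_cast h5)) hr.ne_one
    subst hd
    rcases Nat.eq_zero_or_pos c with h0 | h0
    · subst h0
      norm_num at h1
      have h' : y i = 1 ∨ y i = -3 := by omega
      rcases h' with h' | h'
      · exact absurd h' (hy i).1
      · exact absurd (by rw [h']; norm_num) h3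
    · exact Int.natCast_dvd.2 (h1 ▸ (dvd_mul_of_dvd_right
        ((dvd_pow_self 3 h0.ne').trans (dvd_mul_right _ _)) 2))
  -- the case with two multiples of three
  have htwo : ∀ i j k, y i + y j + y k = -1 → (3 : ℤ) ∣ y i → (3 : ℤ) ∣ y j → ¬ (3 : ℤ) ∣ y k →
      ¬ (r : ℤ) ∣ y i + 1 → y i = -3 ∧ y j = -3 ∧ y k = 5 := by
    intro i j k hs hi hj hk hri
    obtain ⟨c, d, h1⟩ := hy1 i
    have hc : c = 0 := by
      rcases Nat.eq_zero_or_pos c with h0 | h0
      · exact h0
      · have : 3 ∣ (y i + 1).natAbs := h1 ▸ dvd_mul_of_dvd_right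
          ((dvd_pow_self 3 h0.ne').trans (dvd_mul_right _ _)) 2
        omega
    have hd : d = 0 := by
      rcases Nat.eq_zero_or_pos d with h0 | h0
      · exact h0
      · exact absurd (Int.natCast_dvd.2 (h1 ▸ dvd_mul_of_dvd_right
          ((dvd_pow_self r h0.ne').trans (dvd_mul_left _ _)) 2)) hri
    subst hc hd
    norm_num at h1
    have hyi : y i = -3 := by have := (hy i).1; omega
    refine ⟨hyi, ?_⟩
    obtain ⟨a, b, ha⟩ := hy' j
    have hb : b = 0 := by
      rcases Nat.eq_zero_or_pos b with h0 | h0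
      · exact h0
      · exact absurd (Int.natCast_dvd.2 (ha ▸ (dvd_pow_self r h0.ne').trans (dvd_mul_left _ _)))
          ((hpure j).1 hj)
    subst hb
    rw [pow_zero, mul_one] at ha
    have ha0 : a ≠ 0 := by
      rintro rfl
      norm_num at ha
      have := hy j
      omega
    obtain ⟨c, d, h2⟩ := hy1 k
    have hd : d = 0 := by
      rcases Nat.eq_zero_or_pos d with h0 | h0
      · exact h0
      · have h4 : (r : ℤ) ∣ y k + 1 := Int.natCast_dvd.2 (h2 ▸ dvd_mul_of_dvd_right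
          ((dvd_pow_self r h0.ne').trans (dvd_mul_left _ _)) 2)
        have h5 := dvd_sub h4 (not_not.1 fun h => hk ((hpure k).2 h))
        rw [add_sub_cancel_left] at h5
        exact absurd (Nat.dvd_one.1 (by exact_mod_cast h5)) hr.ne_one
    subst hd
    rw [pow_zero, mul_one] at h2
    rcases Nat.lt_or_ge a 2 with h | h
    · obtain rfl : a = 1 := by omega
      norm_num at ha
      have := hy k
      omega
    · obtain ⟨a', rfl⟩ : ∃ a', a = a' + 2 := ⟨a - 2, by omega⟩
      have h9 : 9 ∣ (y j).natAbs := ha ▸ ⟨3 ^ a', by ring⟩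
      have hc1 : c ≤ 1 := by
        by_contra hc
        obtain ⟨c', rfl⟩ : ∃ c', c = c' + 2 := ⟨c - 2, by omega⟩
        have : 9 ∣ (y k + 1).natAbs := h2 ▸ ⟨2 * 3 ^ c', by ring⟩
        omega
      interval_cases c
      · omega
      · have hyj : y j = 9 := by omega
        have hyk : y k = -7 := by omega
        obtain ⟨c, d, h3⟩ := hy1 j
        rw [hyj] at h3
        norm_num at h3
        have h5 : 5 ∣ 3 ^ c * r ^ d := ⟨1, by omega⟩
        have h7 : (r : ℤ) ∣ 7 := by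
          have := not_not.1 fun h => hk ((hpure k).2 h)
          rw [hyk] at this
          exact dvd_neg.1 this
        have h7' : r = 7 := (Nat.prime_dvd_prime_iff_eq hr (by norm_num)).1 (by exact_mod_cast h7)
        rcases (Nat.prime_five.dvd_mul).1 h5 with h5 | h5
        · have := Nat.prime_five.dvd_of_dvd_pow h5
          omega
        · have := Nat.prime_five.dvd_of_dvd_pow h5
          rw [h7'] at this
          omega
  have hperm : ∀ i j k, y i + y j + y k = -1 → (3 : ℤ) ∣ y i → (3 : ℤ) ∣ y j → ¬ (3 : ℤ) ∣ y k →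
      y i = -3 ∧ y j = -3 ∧ y k = 5 := by
    intro i j k hs hi hj hk
    by_cases hri : (r : ℤ) ∣ y i + 1
    · by_cases hrj : (r : ℤ) ∣ y j + 1
      · exfalso
        have hrk : (r : ℤ) ∣ y k := not_not.1 fun h => hk ((hpure k).2 h)
        have h5 := dvd_add (dvd_add hri hrj) hrk
        rw [show y i + 1 + (y j + 1) + y k = 1 by linarith] at h5
        exact hr.ne_one (Nat.dvd_one.1 (by exact_mod_cast h5))
      · obtain ⟨a, b, c⟩ := htwo j i k (by linarith) hj hi hk hrj
        exact ⟨b, a, c⟩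
    · exact htwo i j k hs hi hj hk hri
  have hB := hrB
  intro l
  by_cases h0 : (3 : ℤ) ∣ y 0 <;> by_cases h1 : (3 : ℤ) ∣ y 1 <;> by_cases h2 : (3 : ℤ) ∣ y 2
  · omega
  · obtain ⟨a, b, c⟩ := hperm 0 1 2 (by linarith) h0 h1 h2; fin_cases l <;> first | exact Or.inl c | exact Or.inr a | exact Or.inr b
  · obtain ⟨a, b, c⟩ := hperm 0 2 1 (by linarith) h0 h2 h1; fin_cases l <;> first | exact Or.inl c | exact Or.inr a | exact Or.inr b
  · have := hB 1 h1; have := hB 2 h2; omega
  · obtain ⟨a, b, c⟩ := hperm 1 2 0 (by linarith) h1 h2 h0; fin_cases l <;> first | exact Or.inl c | exact Or.inr a | exact Or.inr b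
  · have := hB 0 h0; have := hB 2 h2; omega
  · have := hB 0 h0; have := hB 1 h1; omega
  · have := hB 0 h0; have := hB 1 h1; have := hB 2 h2; omega

/-- An element of a degree three representation with trace `-1` and determinant one. -/
theorem sq_eq_one_of_trace {G : Type*} [Group G] [Finite G] (hperf : commutator G = ⊤)
    {n : ℕ} (ρ : Representation ℂ G (Fin n → ℂ)) (hn : n = 3) {g : G}
    (hg : ρ.character g = -1) : ρ (g ^ 2) = 1 := by
  classical
  have hord : orderOf g ≠ 0 := (orderOf_pos g).ne'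
  have hpow : (ρ g) ^ orderOf g = 1 := by rw [← map_pow, pow_orderOf_eq_one, map_one]
  obtain ⟨b, μ, hb, hμ⟩ := H25.exists_eigenbasis_of_pow_eq_one (ρ g) (n := orderOf g)
    (Nat.cast_ne_zero.2 hord) hpow
  have hmat : LinearMap.toMatrix b b (ρ g) = Matrix.diagonal μ := by
    ext i j
    rw [LinearMap.toMatrix_apply, hb, map_smul, Finsupp.smul_apply, b.repr_self, smul_eq_mul,
      Finsupp.single_apply, Matrix.diagonal_apply]
    rcases eq_or_ne i j with h | h
    · subst h; simp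
    · simp [h, Ne.symm h]
  have htr : ∑ i, μ i = -1 := by
    rw [← hg, Representation.character, LinearMap.trace_eq_matrix_trace ℂ b, hmat,
      Matrix.trace_diagonal]
  have hdet : ∏ i, μ i = 1 := by
    rw [← Matrix.det_diagonal, ← hmat, LinearMap.det_toMatrix]
    let f : G →* ℂ := LinearMap.det.comp ρ
    have hk : commutator G ≤ f.toHomUnits.ker := Abelianization.commutator_subset_ker _
    rw [hperf] at hk
    exact congrArg Units.val (MonoidHom.mem_ker.1 (hk (Subgroup.mem_top g)))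
  have hne : ∀ i, μ i ≠ 0 := fun i h => by
    have := hμ i
    rw [h, zero_pow hord] at this
    exact zero_ne_one this
  have hinv : ∑ i, (μ i)⁻¹ = -1 := by
    have h := congrArg (starRingEnd ℂ) htr
    rw [map_sum, map_neg, map_one] at h
    rw [← h]
    refine Finset.sum_congr rfl fun i _ => ?_
    exact Complex.inv_eq_conj (Complex.norm_eq_one_of_pow_eq_one (hμ i) hord)
  have hfin : Module.finrank ℂ (Fin n → ℂ) = 3 := by rw [Module.finrank_fin_fun, hn]
  have hsq : ∀ i, μ i ^ 2 = 1 := by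
    generalize hN : Module.finrank ℂ (Fin n → ℂ) = N at b μ
    rw [hN] at hfin
    subst hfin
    simp only [Fin.sum_univ_three, Fin.prod_univ_three] at htr hdet hinv
    have h2 : μ 0 * μ 1 + μ 0 * μ 2 + μ 1 * μ 2 = -1 := by
      field_simp [hne 0, hne 1, hne 2] at hinv
      linear_combination hinv - hdet
    intro i
    have : (μ i - 1) * (μ i + 1) ^ 2 = 0 := by
      fin_cases i
      · show (μ 0 - 1) * (μ 0 + 1) ^ 2 = 0
        linear_combination μ 0 ^ 2 * htr - μ 0 * h2 + hdet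
      · show (μ 1 - 1) * (μ 1 + 1) ^ 2 = 0
        linear_combination μ 1 ^ 2 * htr - μ 1 * h2 + hdet
      · show (μ 2 - 1) * (μ 2 + 1) ^ 2 = 0
        linear_combination μ 2 ^ 2 * htr - μ 2 * h2 + hdet
    rcases mul_eq_zero.1 this with h | h
    · rw [sub_eq_zero.1 h, one_pow]
    · rw [eq_neg_of_add_eq_zero_left ((pow_eq_zero_iff two_ne_zero).1 h), neg_one_sq]
  refine b.ext fun i => ?_
  rw [map_pow, sq, Module.End.mul_apply, hb, map_smul, hb, smul_smul, ← sq, hsq, one_smul,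
    Module.End.one_apply]

set_option maxHeartbeats 1000000 in
/-- A non-abelian simple group of order `4 * 3 ^ i * r ^ j` has order `60`. -/
theorem card_eq_sixty {G : Type*} [Group G] [Finite G] [IsSimpleGroup G] (hG : ¬ IsCyclic G)
    {r i j : ℕ} (hr : r.Prime) (hr3 : r ≠ 3) (hr2 : r ≠ 2)
    (hcard : Nat.card G = 4 * (3 ^ i * r ^ j)) : Nat.card G = 60 := by
  classical
  have hna : ¬ IsMulCommutative G := fun h => hG (by
    let _ : CommGroup G := { (inferInstance : Group G) with mul_comm := fun a b => h.is_comm.comm a b }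
    exact IsSimpleGroup.isCyclic)
  have hperf := H31.FewSylow.perfect_of_simple hG
  let _ : Fintype G := Fintype.ofFinite G
  have : Fact (Nat.Prime 2) := ⟨Nat.prime_two⟩
  have hodd : Odd (3 ^ i * r ^ j) :=
    (Odd.pow (by decide)).mul (Odd.pow (hr.odd_of_ne_two hr2))
  obtain ⟨m, hm⟩ := hodd
  let P : Sylow 2 G := default
  obtain ⟨hP, -⟩ := S0992.result hna (by rw [hcard]; exact even_iff_two_dvd.2 ⟨2 * (3 ^ i * r ^ j), by ring⟩)
    (by rw [hcard, hm]; omega) P
  have hnc : ¬ ∃ N : Subgroup G, N.Normal ∧ Nat.card N = 3 ^ i * r ^ j := by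
    rintro ⟨N, hN, hc⟩
    rcases hN.eq_bot_or_eq_top with h | h <;> subst h
    · rw [Subgroup.card_bot] at hc
      rw [← hc] at hcard
      let _ : Fintype G := Fintype.ofFinite G
      have hsol := H25.isSolvable_of_card_eq_mul_pow Nat.prime_two Nat.prime_three
        (show Nat.card G = 2 ^ 2 * 3 ^ 0 by rw [hcard]; norm_num)
      exact hna ⟨⟨fun a b => (IsSimpleGroup.comm_iff_isSolvable.2 hsol) a b⟩⟩
    · rw [Subgroup.card_top, hcard] at hc
      have := Nat.pos_of_ne_zero (mul_ne_zero (pow_ne_zero i three_ne_zero) (pow_ne_zero j hr.ne_zero))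
      omega
  haveI := hP
  have hone : ∀ s t : G, orderOf s = 2 → orderOf t = 2 → IsConj s t := by
    haveI : IsKleinFour (Multiplicative (ZMod (2 ^ 1) × ZMod (2 ^ 1))) :=
      inferInstanceAs (IsKleinFour (Multiplicative (ZMod 2 × ZMod 2)))
    obtain ⟨e⟩ := IsKleinFour.nonempty_mulEquiv (G₁ := (P : Subgroup G))
      (G₂ := Multiplicative (ZMod (2 ^ 1) × ZMod (2 ^ 1)))
    rcases S0946.result P 1 le_rfl e with ⟨N, hN, hc⟩ | h
    · refine absurd ⟨N, hN, ?_⟩ hnc
      have h1 := hc.card_mul_card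
      have hP4 : Nat.card (P : Subgroup G) = 4 := IsKleinFour.card_four
      rw [hP4, hcard] at h1
      omega
    · exact h
  obtain ⟨M, hM⟩ := H42.exists_isPModular Nat.prime_two
  obtain ⟨χ₂, χ₃, χ₄, ε, hε, h2ne, h3ne, h23, h24, h34, hB, hval, hc2, hc3, hc4, hrel⟩ :=
    S0948.result M hM P hP hone
  obtain ⟨J, hJ⟩ := exists_prime_orderOf_dvd_card' (G := (P : Subgroup G)) 2
    (by rw [IsKleinFour.card_four]; norm_num)
  have hJ2 : orderOf (J : G) = 2 := by rw [Subgroup.orderOf_coe]; exact hJ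
  obtain ⟨hv2, hv3, hv4⟩ := hval J hJ2
  have h4ne : (χ₄ : G → ℂ) ≠ (fun _ => 1) := fun h => by
    rw [h] at hv4
    norm_num at hv4
  have hd : ∀ χ : Cfsg.IrrCharacter G, (χ : G → ℂ) ≠ (fun _ => 1) →
      2 ≤ Cfsg.charDegree χ.1 := by
    intro χ hne
    by_contra hlt
    have hpos : Cfsg.charDegree χ.1 ≠ 0 := fun h0 => H26.irr_one_ne_zero χ (by
      rw [(H31.Defect.irr_degree χ).1, h0, Nat.cast_zero])
    refine hne ?_
    rw [H31.FewSylow.eq_one_of_linear hperf (χ := χ) (by omega)]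
    exact funext fun g => H26.oneIrr_val g
  have hform := S4479.result M hM (3 ^ i * r ^ j) ⟨m, hm⟩ hcard hnc P J J.2 hJ2 χ₂ χ₃ χ₄ 1 ε (-1)
    hB ⟨h2ne, h3ne, h4ne, h23, h24, h34⟩ ⟨Or.inl rfl, hε, Or.inr rfl⟩
    ⟨by rw [hv2, Int.cast_one], hv3, by rw [hv4]; norm_num⟩
  set d₂ := Cfsg.charDegree χ₂.1
  set d₃ := Cfsg.charDegree χ₃.1
  set d₄ := Cfsg.charDegree χ₄.1
  have hd2 := hd χ₂ h2ne
  have hd3 := hd χ₃ h3ne
  have hd4 := hd χ₄ h4ne
  set cJ := Nat.card (Subgroup.centralizer ({(J : G)} : Set G)) with hcJ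
  set cP := Nat.card (Subgroup.centralizer ((P : Subgroup G) : Set G)) with hcP
  have hz : (Nat.card G : ℤ) * (((d₂ : ℤ) + 1) * ((d₃ : ℤ) + ε) * ((d₄ : ℤ) - 1)) * (cP : ℤ) ^ 2 =
      8 * ((d₂ : ℤ) * d₃ * d₄) * (cJ : ℤ) ^ 3 := by
    have hA : ((d₂ : ℤ) + 1) * ((d₃ : ℤ) + ε) * ((d₄ : ℤ) - 1) ≠ 0 := by
      refine mul_ne_zero (mul_ne_zero ?_ ?_) ?_ <;> rcases hε with rfl | rfl <;> omega
    have hcP0 : (cP : ℚ) ≠ 0 := Nat.cast_ne_zero.2 (Nat.card_pos (α := _)).ne'
    have hA' : ((d₂ : ℚ) + ((1 : ℤ) : ℚ)) * ((d₃ : ℚ) + (ε : ℚ)) * ((d₄ : ℚ) + ((-1 : ℤ) : ℚ)) ≠ 0 := by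
      have : ((((d₂ : ℤ) + 1) * ((d₃ : ℤ) + ε) * ((d₄ : ℤ) - 1) : ℤ) : ℚ) ≠ 0 :=
        Int.cast_ne_zero.2 hA
      push_cast at this ⊢
      rwa [← sub_eq_add_neg]
    rw [mul_div_assoc', div_mul_eq_mul_div, div_div,
      eq_div_iff (mul_ne_zero hA' (pow_ne_zero 2 hcP0))] at hform
    refine Int.cast_injective (α := ℚ) ?_
    push_cast at hform ⊢
    linear_combination hform
  -- prime support
  have hsupp : ∀ n : ℕ, n ≠ 0 → (∀ l : ℕ, l.Prime → l ∣ n → l = 3 ∨ l = r) →
      ∃ a b, n = 3 ^ a * r ^ b := by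
    intro n
    induction n using Nat.recOnMul with
    | zero => intro h; exact absurd rfl h
    | one => exact fun _ _ => ⟨0, 0, by simp⟩
    | prime l hl =>
      intro _ h
      rcases h l hl dvd_rfl with rfl | rfl
      · exact ⟨1, 0, by simp⟩
      · exact ⟨0, 1, by simp⟩
    | mul x y ihx ihy =>
      intro h0 h
      obtain ⟨a, b, rfl⟩ := ihx (left_ne_zero_of_mul h0) fun l hl hd => h l hl (hd.mul_right _)
      obtain ⟨c, d, rfl⟩ := ihy (right_ne_zero_of_mul h0) fun l hl hd => h l hl (hd.mul_left _)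
      exact ⟨a + c, b + d, by ring⟩
  have hprime : ∀ l : ℕ, l.Prime → l ≠ 2 → l ∣ Nat.card G → l = 3 ∨ l = r := by
    intro l hl hl2 hd
    rw [hcard] at hd
    rcases hl.dvd_mul.1 hd with h | h
    · exact absurd ((Nat.prime_dvd_prime_iff_eq hl Nat.prime_two).1
        (hl.dvd_of_dvd_pow (show l ∣ 2 ^ 2 from h))) hl2
    · rcases hl.dvd_mul.1 h with h | h
      · exact Or.inl ((Nat.prime_dvd_prime_iff_eq hl Nat.prime_three).1 (hl.dvd_of_dvd_pow h))
      · exact Or.inr ((Nat.prime_dvd_prime_iff_eq hl hr).1 (hl.dvd_of_dvd_pow h))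
  have hdG : ∀ χ : Cfsg.IrrCharacter G, Cfsg.charDegree χ.1 ∣ Nat.card G :=
    fun χ => H42.charDegree_dvd_card χ
  have hdeg : ∀ (χ : Cfsg.IrrCharacter G) (s : ℤ), (s = 1 ∨ s = -1) →
      (4 : ℤ) ∣ (Cfsg.charDegree χ.1 : ℤ) - s → (χ : G → ℂ) ≠ (fun _ => 1) →
      ∃ a b : ℕ, (s * (Cfsg.charDegree χ.1 : ℤ)).natAbs = 3 ^ a * r ^ b := by
    intro χ s hs h4 hne
    have h2 := hd χ hne
    rw [Int.natAbs_mul, Int.natAbs_natCast, show s.natAbs = 1 by omega, one_mul]
    refine hsupp _ (by omega) fun l hl hdl => hprime l hl ?_ (hdl.trans (hdG χ))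
    rintro rfl
    omega
  have hhalf : ∀ (d : ℕ) (s : ℤ), (s = 1 ∨ s = -1) → (4 : ℤ) ∣ (d : ℤ) - s → 2 ≤ d →
      ((d : ℤ) + s) ∣ 8 * ((d₂ : ℤ) * d₃ * d₄) * (cJ : ℤ) ^ 3 →
      ∃ a b : ℕ, (s * (d : ℤ) + 1).natAbs = 2 * (3 ^ a * r ^ b) := by
    intro d s hs h4 h2 hdvd
    have he : (s * (d : ℤ) + 1).natAbs = ((d : ℤ) + s).natAbs := by
      rcases hs with rfl | rfl <;> omega
    obtain ⟨w, hw⟩ : ∃ w, ((d : ℤ) + s).natAbs = 2 * w ∧ ¬ 2 ∣ w :=
      ⟨((d : ℤ) + s).natAbs / 2, by rcases hs with rfl | rfl <;> omega⟩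
    obtain ⟨a, b, hab⟩ := hsupp w (by rintro rfl; exact hw.2 (dvd_zero 2)) fun l hl hlw => by
      have hl2 : l ≠ 2 := fun h => hw.2 (h ▸ hlw)
      refine hprime l hl hl2 ?_
      have h1 : l ∣ (8 * ((d₂ : ℤ) * d₃ * d₄) * (cJ : ℤ) ^ 3).natAbs :=
        (hw.1 ▸ hlw.mul_left 2 : l ∣ ((d : ℤ) + s).natAbs).trans (Int.natAbs_dvd_natAbs.2 hdvd)
      simp only [Int.natAbs_mul, Int.natAbs_pow, Int.natAbs_natCast] at h1
      rcases hl.dvd_mul.1 h1 with h1 | h1
      · rcases hl.dvd_mul.1 h1 with h1 | h1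
        · exact absurd ((Nat.prime_dvd_prime_iff_eq hl Nat.prime_two).1
            (hl.dvd_of_dvd_pow (show l ∣ 2 ^ 3 from h1))) hl2
        · rcases hl.dvd_mul.1 h1 with h1 | h1
          · rcases hl.dvd_mul.1 h1 with h1 | h1
            · exact h1.trans (hdG χ₂)
            · exact h1.trans (hdG χ₃)
          · exact h1.trans (hdG χ₄)
      · exact (hl.dvd_of_dvd_pow h1).trans (Subgroup.card_subgroup_dvd_card _)
    exact ⟨a, b, by rw [he, hw.1, hab]⟩
  have hrel1 : (1 : ℤ) + d₂ + ε * d₃ + (-(d₄ : ℤ)) = 0 := by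
    have h := hrel 1 (by simp)
    rw [(H31.Defect.irr_degree χ₂).1, (H31.Defect.irr_degree χ₃).1,
      (H31.Defect.irr_degree χ₄).1] at h
    refine Int.cast_injective (α := ℂ) ?_
    push_cast
    linear_combination h
  have hy := degree_pattern hr hr3 ![(d₂ : ℤ), ε * d₃, -(d₄ : ℤ)] (by simpa using hrel1)
    (fun k => by fin_cases k <;> rcases hε with rfl | rfl <;> simp <;> omega)
    (fun k => by
      fin_cases k
      · simpa using hdeg χ₂ 1 (Or.inl rfl) hc2 h2ne
      · simpa using hdeg χ₃ ε hε hc3 h3ne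
      · simpa using hdeg χ₄ (-1) (Or.inr rfl) (by simpa using hc4) h4ne)
    (fun k => by
      fin_cases k
      · simpa using hhalf d₂ 1 (Or.inl rfl) hc2 hd2 (hz ▸ Dvd.dvd.mul_right (Dvd.dvd.mul_left
          (dvd_mul_of_dvd_left (dvd_mul_right _ _) _) _) _)
      · simpa using hhalf d₃ ε hε hc3 hd3 (hz ▸ Dvd.dvd.mul_right (Dvd.dvd.mul_left
          (dvd_mul_of_dvd_left (dvd_mul_left _ _) _) _) _)
      · simpa [sub_eq_add_neg] using hhalf d₄ (-1) (Or.inr rfl) (by simpa using hc4) hd4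
          (hz ▸ Dvd.dvd.mul_right (Dvd.dvd.mul_left (dvd_mul_left _ _) _) _))
  have e2 : (d₂ : ℤ) = 5 := by have := hy 0; simp at this; omega
  have e4 : (d₄ : ℤ) = 3 := by have := hy 2; simp at this; omega
  have e3 : ε = -1 ∧ (d₃ : ℤ) = 3 := by
    have := hy 1
    simp at this
    rcases hε with rfl | rfl <;> omega
  -- the centraliser of the involution
  have hmem4 : χ₄ ∈ Cfsg.principalBlock M G := by
    rw [hB]; exact Or.inr (Or.inr (Or.inr rfl))
  have heven : ∀ g : G, 2 ∣ orderOf g → g ^ 2 = 1 := by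
    intro g hg
    obtain ⟨n, ρ, -, hρ⟩ := χ₄.2
    have hn : n = 3 := by
      have h := congrFun hρ 1
      rw [Representation.char_one, Module.finrank_fin_fun, (H31.Defect.irr_degree χ₄).1] at h
      have : n = d₄ := by exact_mod_cast h
      omega
    have h1 := sq_eq_one_of_trace hperf ρ hn (g := g) (by
      rw [congrFun hρ g, value_even_order M hM P hP hone hg hJ2 χ₄ hmem4, hv4])
    refine H31.FewSylow.faithful (θ := χ₄) (fun h => h4ne (by
      rw [h]; exact funext fun x => H26.oneIrr_val x)) ?_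
    rw [← congrFun hρ, ← congrFun hρ]
    simp only [Representation.character, h1, map_one]
  have hP4 : Nat.card (P : Subgroup G) = 4 := IsKleinFour.card_four
  have hcomm : ∀ x ∈ (P : Subgroup G), ∀ y ∈ (P : Subgroup G), x * y = y * x := fun x hx y hy' =>
    congrArg Subtype.val
      (mul_comm_of_exponent_two (G := (P : Subgroup G)) IsKleinFour.exponent_two ⟨x, hx⟩ ⟨y, hy'⟩)
  have hPC : (P : Subgroup G) ≤ Subgroup.centralizer ((P : Subgroup G) : Set G) :=
    fun x hx => Subgroup.mem_centralizer_iff.2 fun y hy' => hcomm y hy' x hx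
  have hCC : Subgroup.centralizer ((P : Subgroup G) : Set G) ≤
      Subgroup.centralizer ({(J : G)} : Set G) :=
    Subgroup.centralizer_le (Set.singleton_subset_iff.2 J.2)
  have h2grp : IsPGroup 2 (Subgroup.centralizer ({(J : G)} : Set G)) := by
    intro g
    refine ⟨1, Subtype.ext ?_⟩
    rw [Subgroup.coe_pow, Subgroup.coe_one, pow_one]
    by_cases hev : 2 ∣ orderOf (g : G)
    · exact heven _ hev
    · have hc : Commute (g : G) J := Subgroup.mem_centralizer_singleton_iff.1 g.2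
      have hJJ : (J : G) ^ 2 = 1 := by
        have h := pow_orderOf_eq_one (J : G)
        rwa [hJ2] at h
      have hcop : (orderOf (g : G)).Coprime (orderOf (J : G)) := by
        rw [hJ2]; exact ((Nat.prime_two.coprime_iff_not_dvd).2 hev).symm
      have h := heven ((g : G) * J) (by
        rw [hc.orderOf_mul_eq_mul_orderOf_of_coprime hcop, hJ2]; exact dvd_mul_left _ _)
      rwa [hc.mul_pow, hJJ, mul_one] at h
  have hle : Nat.card (Subgroup.centralizer ({(J : G)} : Set G)) ≤ 4 := by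
    obtain ⟨Q, hQ⟩ := h2grp.exists_le_sylow
    refine (Nat.le_of_dvd Nat.card_pos (Subgroup.card_dvd_of_le hQ)).trans ?_
    rw [Nat.card_congr (Q.equiv P).toEquiv, hP4]
  have h5 : 4 ≤ cP := hP4 ▸ Nat.le_of_dvd Nat.card_pos (Subgroup.card_dvd_of_le hPC)
  have h6 : cP ≤ cJ := Nat.le_of_dvd Nat.card_pos (Subgroup.card_dvd_of_le hCC)
  have h7 : cJ ≤ 4 := hle
  rw [e2, e4, e3.1, e3.2, show cP = 4 by omega, show cJ = 4 by omega] at hz
  norm_num at hz
  have : (Nat.card G : ℤ) = 60 := by rw [Nat.card_eq_fintype_card]; omega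
  exact_mod_cast this

end Cfsg.Agent.H69.PRQ
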